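/-
Boolean checks of the certificates for the group of type F4 over two elements.
-/
import Cfsg.Agent.Chev.DataF4
import Cfsg.Agent.Chev.Comm
import Cfsg.Agent.ChevMult.F4Two.CertData

set_option autoImplicit false

namespace CfsgLib.ChevMult.F4Two

open Cfsg.Lie CfsgLib.Chev

/-- an odd structure constant -/
def odd (c : ℕ × ℤ × ℕ × ℕ) : Bool := !(Nat.beq (c.2.1.natAbs % 2) 0)

/-- all variables occur -/
def expOk (c : ℕ × ℤ × ℕ × ℕ) : Bool := !(Nat.beq c.2.2.1 0) && !(Nat.beq c.2.2.2 0)

/-- The roots of the commutator of the root elements `a`, `b` over two elements. -/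
def w (a b : ℕ) : List ℕ := ((F4Data.tab.commT b a).filter odd).map fun c => c.1

/-- `a`, `b` are roots, not equal and not opposite -/
def adj (a b : ℕ) : Bool :=
  Nat.blt a 48 && Nat.blt b 48 && !Nat.beq a b && !Nat.beq a (Nat.sub 47 b)

/-- the commutator is trivial -/
def isNil (a b : ℕ) : Bool := adj a b && (w a b).isEmpty

/-- the two root elements commute -/
def com (a b : ℕ) : Bool := (Nat.blt a 48 && Nat.beq a b) || isNil a b

/-- the commutator is one root element -/
def one (a b c : ℕ) : Bool :=
  adj a b && Nat.blt c 48 && decide (w a b = [c])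

/-- the commutator is a product of two commuting root elements -/
def two (a b p q : ℕ) : Bool :=
  adj a b && com p q && com q p && Nat.blt p 48 && Nat.blt q 48 &&
    (decide (w a b = [p, q]) || decide (w a b = [q, p]))

/-- membership in a list of pairs -/
def memP : List (ℕ × ℕ) → ℕ → ℕ → Bool
  | [], _, _ => false
  | p :: l, a, b => (Nat.beq p.1 a && Nat.beq p.2 b) || memP l a b

/-- membership in a list of pairs, in either order -/
def memS (l : List (ℕ × ℕ)) (a b : ℕ) : Bool := memP l a b || memP l b a

/-- one certificate of commutation -/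
def chkKill (prev : List (ℕ × ℕ)) : ℕ × ℕ × ℕ × ℕ × ℕ → Bool
  | (t, u, a, b, o) => com u a && com u b && com t u &&
      (one a b t || (two a b t o && (Nat.beq o u || memS prev o u)))

/-- the pairs of a list of certificates of commutation -/
def killPairs (l : List (ℕ × ℕ × ℕ × ℕ × ℕ)) : List (ℕ × ℕ) := l.map fun e => (e.1, e.2.1)

/-- all commuting pairs are shown -/
def chkAllKill : Bool :=
  allBelow (fun r => allBelow (fun s =>
    !(com r s) || Nat.beq r s || memS (killPairs kills ++ killPairs kills₂) r s) 48) 48

/-- the chosen commutator of a root -/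
def prefOf (c : ℕ) : ℕ × ℕ := pref.getD c (0, 0)

/-- check of the chosen commutators -/
def chkPref (c : ℕ) : Bool :=
  one (prefOf c).1 (prefOf c).2 c && one (prefOf c).2 (prefOf c).1 c && com (prefOf c).1 c

/-- one step for commutators with one root -/
def chkStep (known : List (ℕ × ℕ)) : ℕ × ℕ × ℕ × ℕ × ℕ × ℕ → Bool
  | (a, k, b, e, r, c) => one a k c && one k a c && one b e k && one a b r && one r e c &&
      com a e && com r k && com k c && memS known r e

/-- the steps for commutators with one root -/
def chkSteps : List (ℕ × ℕ) → List (ℕ × ℕ × ℕ × ℕ × ℕ × ℕ) → Bool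
  | known, [] => allBelow (fun r => allBelow (fun s =>
      !(adj r s) || !(Nat.beq (w r s).length 1) || memS known r s) 48) 48
  | known, e :: l => chkStep known e && chkSteps ((e.1, e.2.1) :: known) l

/-- the pairs of roots linked by one conjugation -/
def ends : Bool × ℕ × ℕ × ℕ × ℕ × ℕ × ℕ × ℕ × ℕ × ℕ → (ℕ × ℕ) × (ℕ × ℕ)
  | (true, l, s, _, q, _, m, _, _, _) => ((l, s), (m, q))
  | (false, l, s, _, b, u, _, _, _, _) => ((l, s), (b, u))

/-- one conjugation linking two pairs -/
def chkEdge : Bool × ℕ × ℕ × ℕ × ℕ × ℕ × ℕ × ℕ × ℕ × ℕ → Bool
  | (true, l, s, p, q, pp, m, sp, Lp, u) =>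
      one p q s && two l p pp m && two l s sp Lp && two m q u Lp && one pp q sp &&
      one pp s u && com l q && com m s && com pp u && com pp Lp &&
      com s u && com s Lp && com s sp && com u Lp && com u sp && com Lp sp
  | (false, l, s, a, b, u, M, sp, Lp, L2) =>
      one a b l && two a s u M && two l s sp Lp && two b u sp L2 && one M b Lp &&
      one M l L2 && com s b && com u L2 && com u l && com u Lp && com L2 l && com L2 Lp &&
      com L2 sp && com l Lp && com l sp && com Lp sp

/-- the pairs of roots with two roots in their commutator -/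
def chkTwo (r s : ℕ) : Bool :=
  match w r s with
  | [p, q] => (com r p && com r q) || (com s p && com s q)
  | _ => false

/-- the chain of conjugations -/
def chkTree : List (ℕ × ℕ) → List (Bool × ℕ × ℕ × ℕ × ℕ × ℕ × ℕ × ℕ × ℕ × ℕ) → Bool
  | reach, [] => allBelow (fun r => allBelow (fun s =>
      !(adj r s) || Nat.ble (w r s).length 1 || memS reach r s) 48) 48
  | reach, e :: l => chkEdge e && (memP reach (ends e).1.1 (ends e).1.2 ||
      memP reach (ends e).2.1 (ends e).2.2) && chkTree ((ends e).1 :: (ends e).2 :: reach) l

/-- shape of the commutator table -/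
def chkShape (r s : ℕ) : Bool :=
  !(adj r s) || (adj s r && (F4Data.tab.commT s r).all expOk && Nat.ble (w r s).length 2 &&
    (w r s).all (fun c => Nat.blt c 48) && (!(Nat.beq (w r s).length 2) || chkTwo r s))

/-- reversed pairs have the same roots in their commutator -/
def chkRev (r s : ℕ) : Bool :=
  !(adj r s) || decide (w r s = w s r) || decide (w r s = (w s r).reverse)

/-- the two roots of a commutator commute -/
def chkPair (r s : ℕ) : Bool :=
  match adj r s, w r s with
  | true, [p, q] => com p q
  | _, _ => true

set_option maxRecDepth 10000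

theorem pair_ok : allBelow (fun r => allBelow (chkPair r) 48) 48 = true := by decide +kernel

theorem rev_ok : allBelow (fun r => allBelow (chkRev r) 48) 48 = true := by decide +kernel

theorem kills_ok : kills.all (chkKill []) = true := by decide +kernel

theorem kills₂_ok : kills₂.all (chkKill (killPairs kills)) = true := by decide +kernel

theorem allKill_ok : chkAllKill = true := by decide +kernel

theorem pref_ok : allBelow chkPref 48 = true := by decide +kernel

theorem steps_ok : chkSteps pref steps = true := by decide +kernel

theorem shape_ok : allBelow (fun r => allBelow (chkShape r) 48) 48 = true := by decide +kernel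

theorem tree_ok : chkTree [base] tree = true := by decide +kernel

end CfsgLib.ChevMult.F4Two
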