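/-
Central extensions of a group containing the root elements of type F4 over two elements: lifts of the
root elements may be chosen so that the commutator formulas hold up to one central involution.
-/
import Cfsg.Agent.ChevMult.Base
import Cfsg.Agent.Chev.GoodAll
import Cfsg.Agent.ChevMult.F4Two.Check

set_option autoImplicit false

namespace CfsgLib.ChevMult.F4Two

open Cfsg.Lie CfsgLib.Chev
open scoped commutatorElement MatrixGroups

theorem adj_iff {a b : ℕ} : adj a b = true ↔ a < 48 ∧ b < 48 ∧ a ≠ b ∧ a ≠ 47 - b := by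
  simp [adj, and_assoc, Bool.eq_false_iff, Nat.beq_eq]

theorem shape {r s : ℕ} (h : adj r s = true) :
    adj s r = true ∧ (∀ c ∈ F4Data.tab.commT s r, expOk c = true) ∧ (w r s).length ≤ 2 ∧
      (∀ c ∈ w r s, c < 48) ∧ ((w r s).length = 2 → chkTwo r s = true) := by
  have h' := adj_iff.1 h
  have hs := (allBelow_iff _ _).1 ((allBelow_iff _ _).1 shape_ok r h'.1) s h'.2.1
  simp only [chkShape, h, Bool.not_true, Bool.false_or, Bool.and_eq_true, List.all_eq_true,
    Bool.or_eq_true, Bool.not_eq_true', Bool.eq_false_iff, ne_eq, Nat.beq_eq, Nat.ble_eq,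
    Nat.blt_eq] at hs
  exact ⟨hs.1.1.1.1, hs.1.1.1.2, hs.1.1.2, hs.1.2, fun e => hs.2.resolve_left (fun n => n e)⟩

variable {F : Type*} [Field F]

/-- there are only two scalars -/
def TwoEl (F : Type*) [Field F] : Prop := ((2 : F) = 0) ∧ ∀ t : F, t = 0 ∨ t = 1

theorem TwoEl.neg_one (hc : TwoEl F) : -(1 : F) = 1 := by linear_combination -hc.1

theorem TwoEl.intCast (hc : TwoEl F) (n : ℤ) : (n : F) = if n.natAbs % 2 = 0 then 0 else 1 := by
  obtain ⟨k, hk⟩ := Int.even_or_odd' n
  rcases hk with rfl | rfl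
  · rw [if_pos (by omega)]; push_cast; linear_combination (k : F) * hc.1
  · rw [if_neg (by omega)]; push_cast; linear_combination (k : F) * hc.1

/-- a word with all parameters one, over two elements -/
theorem prod_rhs (hc : TwoEl F) {M : Type*} [Monoid M] (f : ℕ → F → M) (hf : ∀ r, f r 0 = 1)
    (terms : List (ℕ × ℤ × ℕ × ℕ)) :
    ((rhsWord terms (1 : F) 1).map fun p => f p.1 p.2).prod =
      (((terms.filter odd).map fun c => c.1).map fun r => f r 1).prod := by
  induction terms with
  | nil => rfl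
  | cons c l ih =>
    simp only [rhsWord, List.map_cons, List.prod_cons, hc.neg_one, one_pow, mul_one] at ih ⊢
    rcases eq_or_ne (c.2.1.natAbs % 2) 0 with h | h
    · rw [hc.intCast, if_pos h, hf, one_mul, List.filter_cons_of_neg (by simp [odd, h])]
      exact ih
    · rw [hc.intCast, if_neg h, List.filter_cons_of_pos (by simpa [odd, Bool.eq_false_iff, Nat.beq_eq] using h), List.map_cons,
        List.map_cons, List.prod_cons, ih]

section Group

variable {G : Type*} [Group G]

theorem conj_inv_of_sq {a b : G} (h : a * a ∈ Subgroup.center G) :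
    a * ⁅a, b⁆ * a⁻¹ = ⁅a, b⁆⁻¹ := by
  have h' := Subgroup.mem_center_iff.1 h b
  rw [commutatorElement_def]
  calc a * (a * b * a⁻¹ * b⁻¹) * a⁻¹ = (a * a * b) * a⁻¹ * b⁻¹ * a⁻¹ := by group
    _ = (b * (a * a)) * a⁻¹ * b⁻¹ * a⁻¹ := by rw [h']
    _ = (a * b * a⁻¹ * b⁻¹)⁻¹ := by group

theorem comm_mul_left (a b c : G) : ⁅a * b, c⁆ = a * ⁅b, c⁆ * a⁻¹ * ⁅a, c⁆ := by
  rw [commutatorElement_def, commutatorElement_def, commutatorElement_def]; group

theorem conj_self_comm (a b : G) : a * b * a⁻¹ = ⁅a, b⁆ * b := by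
  rw [commutatorElement_def]; group

end Group

variable {Γ : Type*} [Group Γ] (S : CentExt good_F4 F Γ)

/-- the root elements -/
noncomputable def x (F : Type*) [Field F] (r : ℕ) : GL chevF4.Idx F := good_F4.full.x r 1

/-- lifts of the root elements -/
noncomputable def l (r : ℕ) : Γ := S.L r 1

theorem π_l (r : ℕ) : S.π (l S r) = x F r := S.π_L r 1

/-- the chosen lifts -/
noncomputable def X (c : ℕ) : Γ := ⁅l S (prefOf c).1, l S (prefOf c).2⁆

variable (hc : TwoEl F)
include hc

theorem x_sq (r : ℕ) : x F r * x F r = 1 := by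
  rw [x, good_F4.full.x_add, show (1 : F) + 1 = 0 by linear_combination hc.1, good_F4.full.x_zero]

theorem x_comm_eq {a b : ℕ} (h : adj a b = true) :
    ⁅x F a, x F b⁆ = ((w a b).map (x F)).prod := by
  obtain ⟨ha, hb, hab, hn⟩ := adj_iff.1 h
  rw [x, x, x_commutator (G := good_F4) (r := b) (s := a) hb ha hab hn 1 1, hc.neg_one,
    prod_rhs hc _ good_F4.full.x_zero]
  rfl

theorem x_commute {a b : ℕ} (h : com a b = true) : Commute (x F a) (x F b) := by
  simp only [com, Bool.or_eq_true, Bool.and_eq_true, isNil] at h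
  rcases h with ⟨-, h⟩ | ⟨h, h'⟩
  · rw [Nat.eq_of_beq_eq_true h]
  · refine commutatorElement_eq_one_iff_commute.1 ?_
    rw [x_comm_eq hc h, List.isEmpty_iff.1 h']
    rfl

theorem π_one {a b c : ℕ} (h : one a b c = true) : ⁅x F a, x F b⁆ = x F c := by
  simp only [one, Bool.and_eq_true, decide_eq_true_eq] at h
  rw [x_comm_eq hc h.1.1, h.2]
  simp

theorem π_two {a b p q : ℕ} (h : two a b p q = true) : ⁅x F a, x F b⁆ = x F p * x F q := by
  simp only [two, Bool.and_eq_true, Bool.or_eq_true, decide_eq_true_eq] at h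
  rw [x_comm_eq hc h.1.1.1.1.1]
  rcases h.2 with e | e <;> rw [e]
  · simp
  · simpa using (x_commute hc h.1.1.1.2).eq

theorem conj_fix {u a b : ℕ} (ha : com u a = true) (hb : com u b = true) :
    Commute (l S u) ⁅l S a, l S b⁆ := by
  have e : ∀ {c : ℕ}, com u c = true → S.π (l S u * l S c * (l S u)⁻¹) = S.π (l S c) :=
    fun {c} h => by
      rw [map_mul, map_mul, map_inv, π_l, π_l, (x_commute hc h).eq, mul_inv_cancel_right]
  have h := S.comm_congr (e ha) (e hb)
  rw [← conjugate_commutatorElement] at h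
  exact mul_inv_eq_iff_eq_mul.1 h

theorem commute_congr {a a' b b' : Γ} (ha : S.π a = S.π a') (hb : S.π b = S.π b')
    (h : Commute a b) : Commute a' b' := by
  rw [← commutatorElement_eq_one_iff_commute] at h ⊢
  rwa [← S.comm_congr ha hb]

theorem commute_mul_congr {g a b : Γ} (h : S.π a = S.π b) (hg : Commute g a) : Commute g b :=
  commute_congr S hc rfl h hg

theorem kill_step {prev : List (ℕ × ℕ)}
    (hprev : ∀ o u, memS prev o u = true → Commute (l S o) (l S u)) {e : ℕ × ℕ × ℕ × ℕ × ℕ}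
    (he : chkKill prev e = true) : Commute (l S e.1) (l S e.2.1) := by
  obtain ⟨t, u, a, b, o⟩ := e
  simp only [chkKill, Bool.and_eq_true, Bool.or_eq_true] at he
  obtain ⟨⟨⟨hua, hub⟩, -⟩, h⟩ := he
  have h1 := conj_fix S hc hua hub
  rcases h with h | ⟨h, ho⟩
  · refine (commute_mul_congr S hc ?_ h1).symm
    rw [map_commutatorElement, π_l, π_l, π_l, π_one hc h]
  · have h2 : Commute (l S u) (l S o) := by
      rcases ho with ho | ho
      · rw [Nat.eq_of_beq_eq_true ho]
      · exact (hprev o u ho).symm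
    have h3 : Commute (l S u) (l S t * l S o) := by
      refine commute_mul_congr S hc ?_ h1
      rw [map_commutatorElement, map_mul, π_l, π_l, π_l, π_l, π_two hc h]
    have h4 := h3.mul_right h2.inv_right
    rw [mul_inv_cancel_right] at h4
    exact h4.symm

theorem mem_of_memP {l : List (ℕ × ℕ)} {a b : ℕ} (h : memP l a b = true) : (a, b) ∈ l := by
  induction l with
  | nil => simp [memP] at h
  | cons p l ih =>
    simp only [memP, Bool.or_eq_true, Bool.and_eq_true] at h
    rcases h with ⟨h1, h2⟩ | h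
    · rw [List.mem_cons]; left
      rw [← Nat.eq_of_beq_eq_true h1, ← Nat.eq_of_beq_eq_true h2]
    · exact List.mem_cons_of_mem _ (ih h)

theorem l_commute {r s : ℕ} (h : com r s = true) : Commute (l S r) (l S s) := by
  have sym : ∀ L : List (ℕ × ℕ), (∀ p ∈ L, Commute (l S p.1) (l S p.2)) →
      ∀ o u, memS L o u = true → Commute (l S o) (l S u) := fun L hL o u h => by
    simp only [memS, Bool.or_eq_true] at h
    rcases h with h | h
    · exact hL _ (mem_of_memP hc h)
    · exact (hL _ (mem_of_memP hc h)).symm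
  have h1 : ∀ p ∈ killPairs kills, Commute (l S p.1) (l S p.2) := by
    intro p hp
    obtain ⟨e, he, rfl⟩ := List.mem_map.1 hp
    exact kill_step S hc (fun o u h => by simp [memS, memP] at h)
      (List.all_eq_true.1 kills_ok e he)
  have h2 : ∀ p ∈ killPairs kills₂, Commute (l S p.1) (l S p.2) := by
    intro p hp
    obtain ⟨e, he, rfl⟩ := List.mem_map.1 hp
    exact kill_step S hc (sym _ h1) (List.all_eq_true.1 kills₂_ok e he)
  rcases eq_or_ne r s with rfl | hne
  · exact Commute.refl _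
  · have hlt : r < 48 ∧ s < 48 := by
      simp only [com, Bool.or_eq_true, Bool.and_eq_true, isNil] at h
      rcases h with ⟨-, h⟩ | ⟨h, -⟩
      · exact absurd (Nat.eq_of_beq_eq_true h) hne
      · exact ⟨(adj_iff.1 h).1, (adj_iff.1 h).2.1⟩
    have hk := (allBelow_iff _ _).1 ((allBelow_iff _ _).1 allKill_ok r hlt.1) s hlt.2
    simp only [h, Bool.not_true, Bool.false_or, Bool.or_eq_true, Nat.beq_eq] at hk
    refine sym _ (fun p hp => ?_) r s (hk.resolve_left hne)
    rcases List.mem_append.1 hp with hp | hp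
    · exact h1 p hp
    · exact h2 p hp

theorem π_X {c : ℕ} (hcl : c < 48) : S.π (X S c) = x F c := by
  have h := (allBelow_iff _ _).1 pref_ok c hcl
  simp only [chkPref, Bool.and_eq_true] at h
  rw [X, map_commutatorElement, π_l, π_l, π_one hc h.1.1]

theorem π_X' {c : ℕ} (hcl : c < 48) : S.π (X S c) = S.π (l S c) := by
  rw [π_X S hc hcl, π_l]

theorem X_commute {r s : ℕ} (hr : r < 48) (hs : s < 48) (h : com r s = true) :
    Commute (X S r) (X S s) :=
  commute_congr S hc (π_X' S hc hr).symm (π_X' S hc hs).symm (l_commute S hc h)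

theorem sq_center {r : ℕ} (g : Γ) (hg : S.π g = x F r) : g * g ∈ Subgroup.center Γ :=
  S.central (by rw [MonoidHom.mem_ker, map_mul, hg, x_sq hc])

theorem X_inv {c : ℕ} (hcl : c < 48) : (X S c)⁻¹ = X S c := by
  have h := (allBelow_iff _ _).1 pref_ok c hcl
  simp only [chkPref, Bool.and_eq_true] at h
  have h1 : Commute (l S (prefOf c).1) (X S c) :=
    commute_mul_congr S hc (π_X' S hc hcl).symm (l_commute S hc h.2)
  rw [X] at h1 ⊢
  rw [← conj_inv_of_sq (sq_center S hc _ (π_l S _)), h1.eq, mul_inv_cancel_right]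

theorem X_mul_self {c : ℕ} (hcl : c < 48) : X S c * X S c = 1 := by
  rw [mul_eq_one_iff_inv_eq, X_inv S hc hcl]

theorem comm_X {a b : ℕ} (ha : a < 48) (hb : b < 48) : ⁅X S a, X S b⁆ = ⁅l S a, l S b⁆ :=
  S.comm_congr (π_X' S hc ha) (π_X' S hc hb)

/-- the commutator of the chosen lifts is the chosen lift -/
def Known (p : ℕ × ℕ) : Prop :=
  ∀ c, w p.1 p.2 = [c] → ⁅X S p.1, X S p.2⁆ = X S c

theorem known_pref {p : ℕ × ℕ} (hp : p ∈ pref) : Known S p := by
  obtain ⟨i, hi, rfl⟩ := List.getElem_of_mem hp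
  have hi' : i < 48 := hi
  have h := (allBelow_iff _ _).1 pref_ok i hi'
  simp only [chkPref, Bool.and_eq_true, prefOf, List.getD_eq_getElem _ _ hi, one,
    decide_eq_true_eq] at h
  obtain ⟨ha, hb, -, -⟩ := adj_iff.1 h.1.1.1.1
  intro c hc'
  rw [h.1.1.2] at hc'
  obtain rfl : i = c := by simpa using hc'
  rw [comm_X S hc ha hb, X, prefOf, List.getD_eq_getElem _ _ hi]

end CfsgLib.ChevMult.F4Two
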