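/-
Central extensions for type F4 over two elements: the commutator formulas for the chosen lifts.
-/
import Cfsg.Agent.ChevMult.F4Two.Lift

set_option autoImplicit false

namespace CfsgLib.ChevMult.F4Two

open Cfsg.Lie CfsgLib.Chev
open scoped commutatorElement MatrixGroups

variable {F : Type*} [Field F] {Γ : Type*} [Group Γ] (S : CentExt good_F4 F Γ) (hc : TwoEl F)

theorem one_lt {a b c : ℕ} (h : one a b c = true) :
    a < 48 ∧ b < 48 ∧ c < 48 ∧ w a b = [c] := by
  simp only [one, Bool.and_eq_true, decide_eq_true_eq, Nat.blt_eq] at h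
  obtain ⟨ha, hb, -, -⟩ := adj_iff.1 h.1.1
  exact ⟨ha, hb, h.1.2, h.2⟩

theorem two_lt {a b p q : ℕ} (h : two a b p q = true) :
    a < 48 ∧ b < 48 ∧ p < 48 ∧ q < 48 := by
  simp only [two, Bool.and_eq_true, Nat.blt_eq] at h
  obtain ⟨ha, hb, -, -⟩ := adj_iff.1 h.1.1.1.1.1
  exact ⟨ha, hb, h.1.1.2, h.1.2⟩

include hc

theorem known_symm {r s : ℕ} (h : adj r s = true) (hk : Known S (r, s)) : Known S (s, r) := by
  intro c hw
  have hcl : c < 48 := (shape (shape h).1).2.2.2.1 c (by rw [hw]; simp)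
  have e : w r s = [c] := by
    obtain ⟨h', -⟩ := adj_iff.1 h
    have hs := (allBelow_iff _ _).1 ((allBelow_iff _ _).1 rev_ok r h') s (adj_iff.1 h).2.1
    simp only [chkRev, h, Bool.not_true, Bool.false_or, Bool.or_eq_true, decide_eq_true_eq] at hs
    rcases hs with hs | hs
    · rw [hs, hw]
    · rw [hs, hw]; rfl
  rw [← commutatorElement_inv, hk c e, X_inv S hc hcl]

theorem step_known {known : List (ℕ × ℕ)} (hknown : ∀ r s, memS known r s = true → Known S (r, s))
    {e : ℕ × ℕ × ℕ × ℕ × ℕ × ℕ} (he : chkStep known e = true) : Known S (e.1, e.2.1) := by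
  obtain ⟨a, k, b, e, r, c⟩ := e
  simp only [chkStep, Bool.and_eq_true] at he
  obtain ⟨⟨⟨⟨⟨⟨⟨⟨hak, -⟩, hbe⟩, hab⟩, hre⟩, hae⟩, hrk⟩, hkc⟩, hm⟩ := he
  obtain ⟨ha, hk, hcl, hwak⟩ := one_lt hak
  obtain ⟨hb, he', -, -⟩ := one_lt hbe
  obtain ⟨-, -, hr, -⟩ := one_lt hab
  obtain ⟨-, -, -, hwre⟩ := one_lt hre
  have hre' : ⁅X S r, X S e⁆ = X S c := hknown r e hm c hwre
  have h1 : S.π (X S k) = S.π ⁅X S b, X S e⁆ := by
    rw [map_commutatorElement, π_X S hc hk, π_X S hc hb, π_X S hc he', π_one hc hbe]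
  have h2 : S.π (X S a * X S b * (X S a)⁻¹) = S.π (X S r * X S b) := by
    rw [map_mul, map_mul, map_mul, map_inv, π_X S hc ha, π_X S hc hb, π_X S hc hr, conj_self_comm,
      π_one hc hab]
  have h3 : S.π (X S a * X S e * (X S a)⁻¹) = S.π (X S e) := by
    rw [map_mul, map_mul, map_inv, π_X S hc ha, π_X S hc he', (x_commute hc hae).eq,
      mul_inv_cancel_right]
  obtain ⟨z, hz, hkz⟩ := S.cen h1
  have hz' := Subgroup.mem_center_iff.1 hz
  have h4 : Commute (X S r) ⁅X S b, X S e⁆ :=
    commute_mul_congr S hc h1 (X_commute S hc hr hk hrk)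
  have h5 : X S a * ⁅X S b, X S e⁆ * (X S a)⁻¹ = ⁅X S b, X S e⁆ * X S c := by
    rw [conjugate_commutatorElement, S.comm_congr h2 h3, comm_mul_left, h4.eq,
      mul_inv_cancel_right, hre']
  intro c' hc'
  rw [hwak] at hc'
  obtain rfl : c = c' := by simpa using hc'
  have h6 : X S a * X S k * (X S a)⁻¹ = X S k * X S c := by
    calc X S a * X S k * (X S a)⁻¹ = X S a * ⁅X S b, X S e⁆ * (z * (X S a)⁻¹) := by
          rw [hkz]; group
      _ = X S a * ⁅X S b, X S e⁆ * ((X S a)⁻¹ * z) := by rw [hz']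
      _ = (⁅X S b, X S e⁆ * X S c) * z := by rw [← h5]; group
      _ = X S k * X S c := by rw [hkz, mul_assoc, hz' (X S c), ← mul_assoc]
  rw [commutatorElement_def, h6, (X_commute S hc hk hcl hkc).eq, mul_inv_cancel_right]

theorem steps_known : ∀ (l : List (ℕ × ℕ × ℕ × ℕ × ℕ × ℕ)) (known : List (ℕ × ℕ)),
    (∀ r s, memS known r s = true → Known S (r, s)) → chkSteps known l = true →
    ∀ r s, adj r s = true → (w r s).length = 1 → Known S (r, s)
  | [], known, hknown, h => by
    intro r s hrs hl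
    obtain ⟨hr, hs, -, -⟩ := adj_iff.1 hrs
    have h' := (allBelow_iff _ _).1 ((allBelow_iff _ _).1 h r hr) s hs
    simp only [hrs, hl, Bool.not_true, Bool.false_or, Bool.or_eq_true] at h'
    exact hknown r s (h'.resolve_left (by simp))
  | e :: l, known, hknown, h => by
    simp only [chkSteps, Bool.and_eq_true] at h
    refine steps_known l _ (fun r s hm => ?_) h.2
    have hk := step_known S hc hknown h.1
    have hadj : adj e.1 e.2.1 = true := by
      obtain ⟨a, k, b, e, r, c⟩ := e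
      simp only [chkStep, Bool.and_eq_true, one] at h
      exact h.1.1.1.1.1.1.1.1.1.1.1
    simp only [memS, Bool.or_eq_true, memP, Bool.and_eq_true, Nat.beq_eq] at hm
    rcases hm with (⟨rfl, rfl⟩ | hm) | (⟨rfl, rfl⟩ | hm)
    · exact hk
    · exact hknown r s (by simp [memS, hm])
    · exact known_symm S hc hadj hk
    · exact hknown r s (by simp [memS, hm])

theorem comm_one {a b c : ℕ} (h : one a b c = true) : ⁅X S a, X S b⁆ = X S c := by
  refine steps_known S hc steps pref (fun r s hm => ?_) steps_ok a b ?_ ?_ c (one_lt h).2.2.2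
  · simp only [memS, Bool.or_eq_true] at hm
    rcases hm with hm | hm
    · exact known_pref S hc (mem_of_memP hc hm)
    · have hp := mem_of_memP hc hm
      refine known_symm S hc ?_ (known_pref S hc hp)
      obtain ⟨i, hi, e⟩ := List.getElem_of_mem hp
      have h := (allBelow_iff _ _).1 pref_ok i hi
      simp only [chkPref, Bool.and_eq_true, one, prefOf, List.getD_eq_getElem _ _ hi, e] at h
      exact h.1.1.1.1
  · simp only [one, Bool.and_eq_true] at h
    exact h.1.1
  · rw [(one_lt h).2.2.2]; rfl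

end CfsgLib.ChevMult.F4Two
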