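/-
Central extensions for type F4 over two elements: the central parameters of the commutators with two
roots are all equal.
-/
import Cfsg.Agent.ChevMult.F4Two.Relations

set_option autoImplicit false

namespace CfsgLib.ChevMult.F4Two

open Cfsg.Lie CfsgLib.Chev
open scoped commutatorElement MatrixGroups

variable {F : Type*} [Field F] {Γ : Type*} [Group Γ] (S : CentExt good_F4 F Γ) (hc : TwoEl F)

/-- the central parameter of a pair of roots -/
noncomputable def δ (r s : ℕ) : Γ := ((w r s).map (X S)).prod⁻¹ * ⁅X S r, X S s⁆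

include hc

theorem δ_center {r s : ℕ} (h : adj r s = true) : δ S r s ∈ Subgroup.center Γ := by
  refine S.central ?_
  obtain ⟨hr, hs, -, -⟩ := adj_iff.1 h
  rw [MonoidHom.mem_ker, δ, map_mul, map_inv, map_commutatorElement, π_X S hc hr, π_X S hc hs,
    x_comm_eq hc h, map_list_prod, List.map_map, inv_mul_eq_one]
  exact congrArg List.prod (List.map_congr_left fun c hc' => π_X S hc ((shape h).2.2.2.1 c hc'))

theorem comm_two {a b p q : ℕ} (h : two a b p q = true) :
    ⁅X S a, X S b⁆ = X S p * X S q * δ S a b := by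
  have h' : ((w a b).map (X S)).prod = X S p * X S q := by
    obtain ⟨-, -, hp, hq⟩ := two_lt h
    simp only [two, Bool.and_eq_true, Bool.or_eq_true, decide_eq_true_eq] at h
    rcases h.2 with e | e <;> rw [e]
    · simp
    · simpa using (X_commute S hc hq hp h.1.1.1.2).eq
  rw [δ, h', mul_inv_cancel_left]

theorem chkTwo_spec {r s : ℕ} (h : adj r s = true) (hl : (w r s).length = 2) :
    ∃ p q, w r s = [p, q] ∧ p < 48 ∧ q < 48 ∧
      ((com r p = true ∧ com r q = true) ∨ (com s p = true ∧ com s q = true)) := by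
  obtain ⟨-, -, -, hlt, ht⟩ := shape h
  obtain ⟨p, q, hpq⟩ := List.length_eq_two.1 hl
  have ht := ht hl
  simp only [chkTwo, hpq, Bool.and_eq_true, Bool.or_eq_true] at ht
  exact ⟨p, q, hpq, hlt p (by rw [hpq]; simp), hlt q (by rw [hpq]; simp), ht⟩

theorem comm_inv_self {r s : ℕ} (h : adj r s = true) (hl : (w r s).length = 2) :
    ⁅X S r, X S s⁆⁻¹ = ⁅X S r, X S s⁆ := by
  obtain ⟨hr, hs, -, -⟩ := adj_iff.1 h
  obtain ⟨p, q, hpq, hp, hq, hcase⟩ := chkTwo_spec hc h hl
  have hP : ⁅X S r, X S s⁆ = X S p * X S q * δ S r s := by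
    rw [δ, hpq]; simp [mul_assoc]
  have hz := Subgroup.mem_center_iff.1 (δ_center S hc h)
  have key : ∀ g : Γ, Commute g (X S p) → Commute g (X S q) → Commute g ⁅X S r, X S s⁆ :=
    fun g h1 h2 => hP ▸ (h1.mul_right h2).mul_right (hz g)
  rcases hcase with ⟨h1, h2⟩ | ⟨h1, h2⟩
  · rw [← conj_inv_of_sq (sq_center S hc _ (π_X S hc hr)),
      (key _ (X_commute S hc hr hp h1) (X_commute S hc hr hq h2)).eq, mul_inv_cancel_right]
  · have h3 := (key _ (X_commute S hc hs hp h1) (X_commute S hc hs hq h2)).inv_right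
    rw [commutatorElement_inv] at h3 ⊢
    rw [← commutatorElement_inv (X S s) (X S r)]
    conv_lhs => rw [← mul_inv_cancel_right ⁅X S s, X S r⁆ (X S s), ← h3.eq]
    exact conj_inv_of_sq (sq_center S hc _ (π_X S hc hs))

theorem δ_swap {a b p q : ℕ} (h : two a b p q = true) :
    ⁅X S b, X S a⁆ = X S p * X S q * δ S a b := by
  have h' := h
  simp only [two, Bool.and_eq_true, Bool.or_eq_true, decide_eq_true_eq] at h'
  have hl : (w a b).length = 2 := by rcases h'.2 with e | e <;> rw [e] <;> rfl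
  rw [← commutatorElement_inv, comm_inv_self S hc h'.1.1.1.1.1 hl, comm_two S hc h]

/-- the parameters of the two ends of a conjugation agree -/
theorem edge {e : Bool × ℕ × ℕ × ℕ × ℕ × ℕ × ℕ × ℕ × ℕ × ℕ} (he : chkEdge e = true) :
    δ S (ends e).1.1 (ends e).1.2 = δ S (ends e).2.1 (ends e).2.2 := by
  obtain ⟨k, l, s, p, q, pp, m, sp, Lp, u⟩ := e
  cases k
  · -- conjugating `⁅X a, X b⁆ = X l` by `X s`
    simp only [chkEdge, Bool.and_eq_true] at he
    obtain ⟨⟨⟨⟨⟨⟨⟨⟨⟨⟨⟨⟨⟨⟨⟨hab, hasu⟩, hls⟩, hbu⟩, hMb⟩, hMl⟩, hsb⟩, huL2⟩, hul⟩, huLp⟩, hL2l⟩, hL2Lp⟩,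
      hL2sp⟩, hlLp⟩, hlsp⟩, hLpsp⟩ := he
    -- the names: `p = a`, `q = b`, `pp = u`, `m = M`, `u = L₂`
    obtain ⟨ha, hb, hl, -⟩ := one_lt hab
    obtain ⟨-, hs, hu, hM⟩ := two_lt hasu
    obtain ⟨-, -, hsp, hLp⟩ := two_lt hls
    obtain ⟨-, -, -, hL2⟩ := two_lt hbu
    have ew := comm_one S hc hab
    have h2 : S.π (X S s * X S p * (X S s)⁻¹) = S.π (X S pp * (X S m * X S p)) := by
      simp only [map_mul, map_inv, π_X S hc ha, π_X S hc hs, π_X S hc hu, π_X S hc hM]
      rw [conj_self_comm, ← commutatorElement_inv, π_two hc hasu, mul_inv_rev, ← mul_assoc]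
      have hx : ∀ r, (x F r)⁻¹ = x F r := fun r => inv_eq_of_mul_eq_one_left (x_sq hc r)
      have hcm : com pp m = true := by
        simp only [two, Bool.and_eq_true] at hasu
        exact hasu.1.1.1.1.2
      rw [hx, hx, ← (x_commute hc hcm).eq]
    have h3 : S.π (X S s * X S q * (X S s)⁻¹) = S.π (X S q) := by
      rw [map_mul, map_mul, map_inv, π_X S hc hs, π_X S hc hb, (x_commute hc hsb).eq,
        mul_inv_cancel_right]
    have h4 := conjugate_commutatorElement (X S p) (X S q) (X S s)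
    rw [ew, S.comm_congr h2 h3, comm_mul_left, comm_mul_left, ew, comm_one S hc hMb,
      conj_self_comm, conj_self_comm (X S m), comm_one S hc hMl, δ_swap S hc hls,
      δ_swap S hc hbu] at h4
    have cuL2 := X_commute S hc hu hL2 huL2
    have cul := X_commute S hc hu hl hul
    have cuLp := X_commute S hc hu hLp huLp
    have cL2l := X_commute S hc hL2 hl hL2l
    have cL2Lp := X_commute S hc hL2 hLp hL2Lp
    have cL2sp := X_commute S hc hL2 hsp hL2sp
    have clLp := X_commute S hc hl hLp hlLp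
    have clsp := X_commute S hc hl hsp hlsp
    have cLpsp := X_commute S hc hLp hsp hLpsp
    have cδ : ∀ g, Commute g (δ S l s) := fun g =>
      Subgroup.mem_center_iff.1 (δ_center S hc (adjOfTwo hls)) g
    -- both sides are words in commuting elements
    rw [(cuL2.mul_right cul |>.mul_right cuLp).eq, mul_inv_cancel_right] at h4
    change δ S l s = δ S q pp
    have e1 : X S sp * X S Lp * δ S l s * X S l = X S l * X S Lp * X S sp * δ S l s := by
      rw [mul_assoc (X S sp * X S Lp), ← (cδ _).eq, ← mul_assoc, mul_assoc (X S l),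
        cLpsp.eq, ← (clsp.mul_right clLp).eq]
    have e2 : X S u * X S l * X S Lp * (X S sp * X S u * δ S q pp)
        = X S l * X S Lp * X S sp * δ S q pp := by
      have c : Commute (X S u) (X S l * X S Lp * X S sp) :=
        (cL2l.mul_right cL2Lp).mul_right cL2sp
      have hu2 : X S u * X S u = 1 := X_mul_self S hc hL2
      calc X S u * X S l * X S Lp * (X S sp * X S u * δ S q pp)
          = X S u * (X S l * X S Lp * X S sp) * X S u * δ S q pp := by group
        _ = X S l * X S Lp * X S sp * δ S q pp := by rw [c.eq, mul_assoc _ _ (X S u), hu2, mul_one]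
    rw [e1, e2] at h4
    exact mul_left_cancel h4
  · -- conjugating `⁅X p, X q⁆ = X s` by `X l`
    simp only [chkEdge, Bool.and_eq_true] at he
    obtain ⟨⟨⟨⟨⟨⟨⟨⟨⟨⟨⟨⟨⟨⟨⟨hpq, hlp⟩, hls⟩, hmq⟩, hppq⟩, hpps⟩, hlq⟩, hms⟩, hppu⟩, hppLp⟩, hsu⟩, hsLp⟩,
      hssp⟩, huLp⟩, husp⟩, hLpsp⟩ := he
    obtain ⟨hp, hq, hs, -⟩ := one_lt hpq
    obtain ⟨hl, -, hpp, hm⟩ := two_lt hlp
    obtain ⟨-, -, hsp, hLp⟩ := two_lt hls
    obtain ⟨-, -, hu, -⟩ := two_lt hmq
    have ew := comm_one S hc hpq
    have h2 : S.π (X S l * X S p * (X S l)⁻¹) = S.π (X S pp * (X S m * X S p)) := by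
      simp only [map_mul, map_inv, π_X S hc hp, π_X S hc hl, π_X S hc hpp, π_X S hc hm]
      rw [conj_self_comm, π_two hc hlp, mul_assoc]
    have h3 : S.π (X S l * X S q * (X S l)⁻¹) = S.π (X S q) := by
      rw [map_mul, map_mul, map_inv, π_X S hc hl, π_X S hc hq, (x_commute hc hlq).eq,
        mul_inv_cancel_right]
    have h4 := conjugate_commutatorElement (X S p) (X S q) (X S l)
    rw [ew, S.comm_congr h2 h3, comm_mul_left, comm_mul_left, ew, comm_two S hc hmq,
      comm_one S hc hppq, conj_self_comm, (X_commute S hc hm hs hms).eq, mul_inv_cancel_right,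
      comm_two S hc hls] at h4
    have cppu := X_commute S hc hpp hu hppu
    have cppLp := X_commute S hc hpp hLp hppLp
    have csu := X_commute S hc hs hu hsu
    have csLp := X_commute S hc hs hLp hsLp
    have cssp := X_commute S hc hs hsp hssp
    have cLpsp := X_commute S hc hLp hsp hLpsp
    have cδ : ∀ g, Commute g (δ S l s) := fun g =>
      Subgroup.mem_center_iff.1 (δ_center S hc (adjOfTwo hls)) g
    have cδ' : ∀ g, Commute g (δ S m q) := fun g =>
      Subgroup.mem_center_iff.1 (δ_center S hc (adjOfTwo hmq)) g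
    change δ S l s = δ S m q
    have e1 : X S sp * X S Lp * δ S l s * X S s = X S s * X S Lp * X S sp * δ S l s := by
      rw [mul_assoc (X S sp * X S Lp), ← (cδ _).eq, ← mul_assoc, mul_assoc (X S s),
        cLpsp.eq, ← (cssp.mul_right csLp).eq]
    have hu2 : X S u * X S u = 1 := X_mul_self S hc hu
    have e2 : X S pp * (X S s * (X S u * X S Lp * δ S m q)) * (X S pp)⁻¹ * X S sp
        = X S s * X S Lp * X S sp * δ S m q := by
      have hps : X S pp * X S s * (X S pp)⁻¹ = X S s * X S u := by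
        rw [conj_self_comm, comm_one S hc hpps, csu.eq]
      have c : Commute (X S pp) (X S u * X S Lp * δ S m q) :=
        (cppu.mul_right cppLp).mul_right (cδ' _)
      calc X S pp * (X S s * (X S u * X S Lp * δ S m q)) * (X S pp)⁻¹ * X S sp
          = X S pp * X S s * ((X S u * X S Lp * δ S m q) * (X S pp)⁻¹) * X S sp := by group
        _ = X S pp * X S s * ((X S pp)⁻¹ * (X S u * X S Lp * δ S m q)) * X S sp := by
          rw [c.inv_left.eq]
        _ = (X S pp * X S s * (X S pp)⁻¹) * (X S u * X S Lp * δ S m q) * X S sp := by group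
        _ = X S s * (X S u * X S u) * X S Lp * (δ S m q * X S sp) := by rw [hps]; group
        _ = X S s * X S Lp * X S sp * δ S m q := by
          rw [hu2, mul_one, ← (cδ' _).eq, ← mul_assoc]
    rw [e1, e2] at h4
    exact mul_left_cancel h4
where
  adjOfTwo {a b p q : ℕ} (h : two a b p q = true) : adj a b = true := by
    simp only [two, Bool.and_eq_true] at h
    exact h.1.1.1.1.1

end CfsgLib.ChevMult.F4Two
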