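/-
The kernel of a stem extension of the group of type F4 over two elements has at most two elements.
-/
import Cfsg.Agent.ChevMult.Finish
import Cfsg.Agent.ChevMult.F4Two.Sign
import Cfsg.Agent.Chev.SteinbergData
import Cfsg.Agent.Chev.SteinbergTorus

set_option autoImplicit false

namespace CfsgLib.ChevMult.F4Two

open Cfsg.Lie CfsgLib.Chev
open scoped commutatorElement MatrixGroups

universe u

/-- the two roots of a commutator commute -/
theorem com_pair {r s p q : ℕ} (h : adj r s = true) (hpq : w r s = [p, q]) :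
    com p q = true := by
  obtain ⟨hr, hs, -, -⟩ := adj_iff.1 h
  have h' := (allBelow_iff _ _).1 ((allBelow_iff _ _).1 pair_ok r hr) s hs
  simpa [chkPair, h, hpq] using h'

section

variable {F : Type*} [Field F] {Γ : Type*} [Group Γ] (S : CentExt good_F4 F Γ) (hc : TwoEl F)

include hc

theorem δ_eq_base_aux : ∀ (l : List (Bool × ℕ × ℕ × ℕ × ℕ × ℕ × ℕ × ℕ × ℕ × ℕ))
    (reach : List (ℕ × ℕ)), (∀ p ∈ reach, δ S p.1 p.2 = δ S base.1 base.2) →
    chkTree reach l = true → ∀ r s, adj r s = true → (w r s).length = 2 →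
    δ S r s = δ S base.1 base.2 ∨ δ S s r = δ S base.1 base.2
  | [], reach, hreach, h => by
    intro r s hrs hl
    obtain ⟨hr, hs, -, -⟩ := adj_iff.1 hrs
    simp only [chkTree, allBelow_iff] at h
    have h' := h r hr s hs
    simp only [hrs, hl, Bool.not_true, Bool.false_or, Bool.or_eq_true] at h'
    rcases h' with h' | hm
    · rw [Nat.ble_eq] at h'; omega
    simp only [memS, Bool.or_eq_true] at hm
    rcases hm with hm | hm
    · exact Or.inl (hreach (r, s) (mem_of_memP hc hm))
    · exact Or.inr (hreach (s, r) (mem_of_memP hc hm))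
  | e :: l, reach, hreach, h => by
    simp only [chkTree, Bool.and_eq_true, Bool.or_eq_true] at h
    refine δ_eq_base_aux l _ (fun p hp => ?_) h.2
    have he := edge S hc h.1.1
    have h1 : δ S (ends e).1.1 (ends e).1.2 = δ S base.1 base.2 := by
      rcases h.1.2 with hm | hm
      · exact hreach ((ends e).1.1, (ends e).1.2) (mem_of_memP hc hm)
      · exact he.trans (hreach ((ends e).2.1, (ends e).2.2) (mem_of_memP hc hm))
    rcases List.mem_cons.1 hp with rfl | hp
    · exact h1
    rcases List.mem_cons.1 hp with rfl | hp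
    · exact he.symm.trans h1
    · exact hreach p hp

theorem δ_rev {r s : ℕ} (h : adj r s = true) (hl : (w r s).length = 2) :
    δ S s r = δ S r s := by
  obtain ⟨hr, hs, -, -⟩ := adj_iff.1 h
  obtain ⟨p, q, hpq, hp, hq, -⟩ := chkTwo_spec hc h hl
  have hrev := (allBelow_iff _ _).1 ((allBelow_iff _ _).1 rev_ok r hr) s hs
  simp only [chkRev, h, Bool.not_true, Bool.false_or, Bool.or_eq_true, decide_eq_true_eq] at hrev
  have hP : ((w s r).map (X S)).prod = ((w r s).map (X S)).prod := by
    rcases hrev with e | e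
    · rw [e]
    · have h4 : Commute (X S p) (X S q) := by
        refine commute_congr S hc (π_X' S hc hp).symm (π_X' S hc hq).symm ?_
        refine l_commute S hc ?_
        exact com_pair h hpq
      rw [← List.reverse_reverse (w s r), ← e, hpq]
      simpa using h4.symm.eq
  rw [δ, δ, hP, ← commutatorElement_inv, comm_inv_self S hc h hl]

theorem δ_eq_base {r s : ℕ} (hrs : adj r s = true) (hl : (w r s).length = 2) :
    δ S r s = δ S base.1 base.2 := by
  rcases δ_eq_base_aux S hc tree [base] (fun p hp => by rw [List.mem_singleton.1 hp]) tree_ok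
    r s hrs hl with h | h
  · exact h
  · rw [← h, δ_rev S hc hrs hl]

theorem comm_eq {r s : ℕ} (h : adj r s = true) :
    ⁅X S r, X S s⁆ = ((w r s).map (X S)).prod * if (w r s).length = 2 then δ S base.1 base.2 else 1 := by
  obtain ⟨hr, hs, -, -⟩ := adj_iff.1 h
  obtain ⟨-, -, hlen, hlt, -⟩ := shape h
  by_cases h2 : (w r s).length = 2
  · rw [if_pos h2, ← δ_eq_base S hc h h2, δ, mul_inv_cancel_left]
  rw [if_neg h2, mul_one]
  rcases e : w r s with _ | ⟨c, _ | ⟨d, l⟩⟩
  · rw [List.map_nil, List.prod_nil, commutatorElement_eq_one_iff_commute]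
    exact X_commute S hc hr hs (by simp [com, isNil, h, e])
  · rw [comm_one S hc (c := c) (by simp [one, h, e, hlt c (by simp [e])])]
    simp
  · exfalso
    rw [e] at hlen h2
    simp only [List.length_cons] at hlen h2
    omega

end

theorem card_ker_le {F : Type u} [Field F] [Finite F] (hc : TwoEl F) {Γ : Type u} [Group Γ]
    (σ : Γ →* chevF4.group F) (hσ : Cfsg.IsStemExtension σ) : Nat.card σ.ker ≤ 2 := by
  let S := ofStem (G := good_F4) σ hσ
  have hb : adj base.1 base.2 = true ∧ (w base.1 base.2).length = 2 := by decide +kernel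
  obtain ⟨hb0, hbl⟩ := hb
  set β := δ S base.1 base.2 with hβdef
  have hβc : β ∈ Subgroup.center Γ := δ_center S hc hb0
  have hβk : β ∈ σ.ker := by
    obtain ⟨hr, hs, -, -⟩ := adj_iff.1 hb0
    rw [MonoidHom.mem_ker]
    refine Subtype.ext ?_
    show S.π β = 1
    rw [hβdef, δ, map_mul, map_inv, map_commutatorElement, π_X S hc hr, π_X S hc hs,
      x_comm_eq hc hb0, map_list_prod, List.map_map, inv_mul_eq_one]
    exact congrArg List.prod
      (List.map_congr_left fun c hc' => π_X S hc ((shape hb0).2.2.2.1 c hc'))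
  have hβ2 : β * β = 1 := by
    obtain ⟨p, q, hpq, hp, hq, -⟩ := chkTwo_spec hc hb0 hbl
    have h := comm_inv_self S hc hb0 hbl
    rw [comm_eq S hc hb0, if_pos hbl, hpq] at h
    have hcq : Commute (X S p) (X S q) :=
      X_commute S hc hp hq (com_pair hb0 hpq)
    have hz := Subgroup.mem_center_iff.1 hβc
    simp only [List.map_cons, List.map_nil, List.prod_cons, List.prod_nil, mul_one,
      ← hβdef] at h
    rw [mul_inv_rev, mul_inv_rev, X_inv S hc hp, X_inv S hc hq, ← hcq.eq, hz] at h
    have h' : β⁻¹ = β := mul_right_cancel h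
    rw [mul_eq_one_iff_inv_eq, h']
  let B := Subgroup.zpowers β
  have hBc : B ≤ Subgroup.center Γ := Subgroup.zpowers_le.2 hβc
  haveI : B.Normal := ⟨fun n hn g => by
    rw [Subgroup.mem_center_iff.1 (hBc hn) g, mul_inv_cancel_right]; exact hn⟩
  let σ' : Γ ⧸ B →* chevF4.group F := QuotientGroup.lift B σ (Subgroup.zpowers_le.2 hβk)
  have hσ' : Cfsg.IsStemExtension σ' := by
    have hk : σ'.ker = σ.ker.map (QuotientGroup.mk' B) := QuotientGroup.ker_lift B σ _
    refine ⟨fun a => ?_, ?_, ?_⟩
    · obtain ⟨g, rfl⟩ := hσ.1 a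
      exact ⟨g, rfl⟩
    · rw [hk]
      rintro _ ⟨g, hg, rfl⟩
      refine Subgroup.mem_center_iff.2 fun a => ?_
      obtain ⟨a, rfl⟩ := QuotientGroup.mk'_surjective B a
      rw [← map_mul, ← map_mul, Subgroup.mem_center_iff.1 (hσ.2.1 hg) a]
    · rw [hk]
      refine (Subgroup.map_mono hσ.2.2).trans ?_
      rw [commutator_def, commutator_def, Subgroup.map_commutator]
      exact Subgroup.commutator_mono le_top le_top
  classical
  let xb : ℕ → F → Γ ⧸ B := fun r t => if t = 0 then 1 else QuotientGroup.mk' B (X S r)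
  let S' := ofStem (G := good_F4) σ' hσ'
  have hxb1 : ∀ r, xb r 1 = QuotientGroup.mk' B (X S r) := fun r => if_neg one_ne_zero
  have hxb0 : ∀ r, xb r 0 = 1 := fun r => if_pos rfl
  obtain ⟨τ, hτ⟩ : ∃ τ : chevF4.SteinbergCover F →* Γ ⧸ B,
      ∀ r < chevF4.nroots, ∀ t, S'.π (τ (chevF4.scGen F r t)) = good_F4.full.x r t := by
    refine S'.exists_hom xb ?_ ?_ ?_
    · intro r hr t
      rcases hc.2 t with rfl | rfl
      · rw [hxb0, map_one, good_F4.full.x_zero]
      · rw [hxb1]
        exact π_X S hc hr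
    · intro r hr t u
      rcases hc.2 t with rfl | rfl
      · rw [hxb0, one_mul, zero_add]
      rcases hc.2 u with rfl | rfl
      · rw [hxb0, mul_one, add_zero]
      rw [show (1 : F) + 1 = 0 by linear_combination hc.1, hxb0, hxb1, ← map_mul,
        X_mul_self S hc hr, map_one]
    · intro r hr s hs hne hne' t u
      have hadj : adj s r = true := adj_iff.2 ⟨hs, hr, hne, hne'⟩
      have hexp : ∀ c ∈ F4Data.tab.commT r s, expOk c = true := (shape hadj).2.1
      have hzero : t = 0 ∨ u = 0 →
          ((rhsWord (F4Data.tab.commT r s) t u).map fun p => xb p.1 p.2).prod = 1 := by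
        intro h0
        refine List.prod_eq_one fun y hy => ?_
        simp only [rhsWord, List.map_map, List.mem_map, Function.comp_apply] at hy
        obtain ⟨c, hc', rfl⟩ := hy
        have he := hexp c hc'
        simp only [expOk, Bool.and_eq_true, Bool.not_eq_true', Bool.eq_false_iff, ne_eq,
          Nat.beq_eq] at he
        rcases h0 with rfl | rfl
        · rw [neg_zero, zero_pow he.1, mul_zero, zero_mul, hxb0]
        · rw [zero_pow he.2, mul_zero, hxb0]
      rcases hc.2 t with rfl | rfl
      · rw [hzero (Or.inl rfl), hxb0]; group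
      rcases hc.2 u with rfl | rfl
      · rw [hzero (Or.inr rfl), hxb0]; group
      rw [prod_rhs hc xb hxb0, hxb1, hxb1, ← map_inv, ← map_inv, X_inv S hc hs, X_inv S hc hr,
        ← map_mul, ← map_mul, ← map_mul]
      have e : X S s * X S r * X S s * X S r = ⁅X S s, X S r⁆ := by
        rw [commutatorElement_def, X_inv S hc hs, X_inv S hc hr]
      rw [e, comm_eq S hc hadj, map_mul, map_list_prod, List.map_map]
      have hβ1 : QuotientGroup.mk' B β = 1 :=
        (QuotientGroup.eq_one_iff β).2 (Subgroup.mem_zpowers β)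
      split <;> simp [hβ1, hxb1, w, Function.comp_def, ← hβdef]
  have hker := (stem_lift (G := good_F4) σ' hσ' τ hτ).2.2
  rw [scθ_ker_eq_bot good_F4 (by simp) ⟨_, wits_F4⟩ uni_F4, Subgroup.map_bot] at hker
  have hle : σ.ker ≤ B := fun g hg => by
    have : QuotientGroup.mk' B g ∈ σ'.ker := hg
    rw [hker, Subgroup.mem_bot] at this
    exact (QuotientGroup.eq_one_iff g).1 this
  haveI : Finite B :=
    (isOfFinOrder_iff_pow_eq_one.2 ⟨2, by norm_num, by rw [pow_two, hβ2]⟩).finite_zpowers
  calc Nat.card σ.ker ≤ Nat.card B := Subgroup.card_le_of_le hle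
    _ = orderOf β := Nat.card_zpowers β
    _ ≤ 2 := orderOf_le_of_pow_eq_one (by norm_num) (by rw [pow_two, hβ2])

end CfsgLib.ChevMult.F4Two
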