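/-
Boolean checks for the matrices of the double cover of the group of type F4 over two elements.
-/
import Cfsg.Agent.Coset.Ly.CentMatCode
import Cfsg.Agent.ChevMult.F4Two.MatList
import Cfsg.Agent.ChevMult.F4Two.Check

set_option autoImplicit false
set_option maxRecDepth 100000

namespace CfsgLib.ChevMult.F4Two

open CfsgLib.Chev (allBelow)
open CfsgLib.Coset.Ly (vrun encF matOf matWord matOK)

/-- the mask of 52 lanes -/
def mask52 : ℕ := ((List.range 52).map fun i => 1023 * 2 ^ (24 * i)).sum

/-- two words have the same matrix -/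
noncomputable def eqW (u v : List ℕ) : Bool :=
  allBelow (fun i =>
    Nat.beq (vrun mask52 matL (Nat.pow 2 (Nat.mul 24 i)) u)
      (vrun mask52 matL (Nat.pow 2 (Nat.mul 24 i)) v)) 52

/-- a simple reflection -/
def sg (i r : ℕ) : ℕ := (sigL.getD i []).getD r 48

/-- conjugation by the `i`-th Weyl involution permutes the root involutions -/
noncomputable def chkConj (i r : ℕ) : Bool :=
  Nat.blt (sg i r) 48 && Nat.beq (sg i (sg i r)) r &&
    (Nat.blt (sg i r) r || eqW [48 + i, r] [sg i r, 48 + i])

/-- the left side of a relation -/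
def lhsW (r s : ℕ) : List ℕ := if Nat.beq r s then [r, r] else [r, s, r, s]

/-- the roots of the right side of a relation -/
def rhsL (r s : ℕ) : List ℕ := if Nat.beq r s then [] else w r s

/-- the sign of a relation -/
def sgnW (L : List ℕ) : List ℕ := if Nat.beq L.length 2 then [52] else []

/-- a representative satisfies its relation -/
noncomputable def chkRep (p : ℕ × ℕ) : Bool :=
  Nat.blt p.1 48 && Nat.blt p.2 48 && (rhsL p.1 p.2).all (fun c => Nat.blt c 48) &&
    eqW (lhsW p.1 p.2) (sgnW (rhsL p.1 p.2) ++ rhsL p.1 p.2)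

/-- decoding a path -/
def decW : ℕ → ℕ → List ℕ
  | 0, _ => []
  | fuel + 1, c => if Nat.beq c 0 then [] else (Nat.sub (c % 5) 1) :: decW fuel (c / 5)

/-- the path of a pair -/
def pathOf (r s : ℕ) : List ℕ × (ℕ × ℕ) :=
  let c := (pathL.getD r []).getD s 0
  (decW 24 (c / 16), repL.getD (c % 16) (0, 0))

/-- the permutation along a path -/
def along : List ℕ → ℕ → ℕ
  | [], r => r
  | i :: l, r => sg i (along l r)

/-- a pair is the image of its representative with the same relation -/
def chkPath (r s : ℕ) : Bool :=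
  !(Nat.beq r s || adj r s) ||
    (let p := pathOf r s
     p.1.all (fun i => Nat.blt i 4) && Nat.blt ((pathL.getD r []).getD s 0 % 16) repL.length &&
       Nat.beq (along p.1 p.2.1) r && Nat.beq (along p.1 p.2.2) s &&
       Bool.not (xor (Nat.beq p.2.1 p.2.2) (Nat.beq r s)) &&
       (decide ((rhsL p.2.1 p.2.2).map (along p.1) = rhsL r s) ||
         decide ((rhsL p.2.1 p.2.2).map (along p.1) = (rhsL r s).reverse)))

theorem mask52_eq : mask52 = encF 52 fun _ => 1023 := by decide +kernel

theorem path_ok : allBelow (fun r => allBelow (chkPath r) 48) 48 = true := by decide +kernel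

theorem mat0_ok : matOK 52 mat0 = true := by decide +kernel

theorem mat1_ok : matOK 52 mat1 = true := by decide +kernel

theorem mat2_ok : matOK 52 mat2 = true := by decide +kernel

theorem mat3_ok : matOK 52 mat3 = true := by decide +kernel

theorem mat4_ok : matOK 52 mat4 = true := by decide +kernel

theorem mat5_ok : matOK 52 mat5 = true := by decide +kernel

theorem mat6_ok : matOK 52 mat6 = true := by decide +kernel

theorem mat7_ok : matOK 52 mat7 = true := by decide +kernel

theorem mat8_ok : matOK 52 mat8 = true := by decide +kernel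

theorem mat9_ok : matOK 52 mat9 = true := by decide +kernel

theorem mat10_ok : matOK 52 mat10 = true := by decide +kernel

theorem mat11_ok : matOK 52 mat11 = true := by decide +kernel

theorem mat12_ok : matOK 52 mat12 = true := by decide +kernel

theorem mat13_ok : matOK 52 mat13 = true := by decide +kernel

theorem mat14_ok : matOK 52 mat14 = true := by decide +kernel

theorem mat15_ok : matOK 52 mat15 = true := by decide +kernel

theorem mat16_ok : matOK 52 mat16 = true := by decide +kernel

theorem mat17_ok : matOK 52 mat17 = true := by decide +kernel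

theorem mat18_ok : matOK 52 mat18 = true := by decide +kernel

theorem mat19_ok : matOK 52 mat19 = true := by decide +kernel

theorem mat20_ok : matOK 52 mat20 = true := by decide +kernel

theorem mat21_ok : matOK 52 mat21 = true := by decide +kernel

theorem mat22_ok : matOK 52 mat22 = true := by decide +kernel

theorem mat23_ok : matOK 52 mat23 = true := by decide +kernel

theorem mat24_ok : matOK 52 mat24 = true := by decide +kernel

theorem mat25_ok : matOK 52 mat25 = true := by decide +kernel

theorem mat26_ok : matOK 52 mat26 = true := by decide +kernel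

theorem mat27_ok : matOK 52 mat27 = true := by decide +kernel

theorem mat28_ok : matOK 52 mat28 = true := by decide +kernel

theorem mat29_ok : matOK 52 mat29 = true := by decide +kernel

theorem mat30_ok : matOK 52 mat30 = true := by decide +kernel

theorem mat31_ok : matOK 52 mat31 = true := by decide +kernel

theorem mat32_ok : matOK 52 mat32 = true := by decide +kernel

theorem mat33_ok : matOK 52 mat33 = true := by decide +kernel

theorem mat34_ok : matOK 52 mat34 = true := by decide +kernel

theorem mat35_ok : matOK 52 mat35 = true := by decide +kernel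

theorem mat36_ok : matOK 52 mat36 = true := by decide +kernel

theorem mat37_ok : matOK 52 mat37 = true := by decide +kernel

theorem mat38_ok : matOK 52 mat38 = true := by decide +kernel

theorem mat39_ok : matOK 52 mat39 = true := by decide +kernel

theorem mat40_ok : matOK 52 mat40 = true := by decide +kernel

theorem mat41_ok : matOK 52 mat41 = true := by decide +kernel

theorem mat42_ok : matOK 52 mat42 = true := by decide +kernel

theorem mat43_ok : matOK 52 mat43 = true := by decide +kernel

theorem mat44_ok : matOK 52 mat44 = true := by decide +kernel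

theorem mat45_ok : matOK 52 mat45 = true := by decide +kernel

theorem mat46_ok : matOK 52 mat46 = true := by decide +kernel

theorem mat47_ok : matOK 52 mat47 = true := by decide +kernel

theorem mat48_ok : matOK 52 mat48 = true := by decide +kernel

theorem mat49_ok : matOK 52 mat49 = true := by decide +kernel

theorem mat50_ok : matOK 52 mat50 = true := by decide +kernel

theorem mat51_ok : matOK 52 mat51 = true := by decide +kernel

theorem mat52_ok : matOK 52 mat52 = true := by decide +kernel

theorem matL_ok : CfsgLib.Coset.allList (matOK 52) matL = true :=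
  CfsgLib.Coset.allList_iff.mpr
    (List.forall_mem_cons.2 ⟨mat0_ok, 
    (List.forall_mem_cons.2 ⟨mat1_ok, 
    (List.forall_mem_cons.2 ⟨mat2_ok, 
    (List.forall_mem_cons.2 ⟨mat3_ok, 
    (List.forall_mem_cons.2 ⟨mat4_ok, 
    (List.forall_mem_cons.2 ⟨mat5_ok, 
    (List.forall_mem_cons.2 ⟨mat6_ok, 
    (List.forall_mem_cons.2 ⟨mat7_ok, 
    (List.forall_mem_cons.2 ⟨mat8_ok, 
    (List.forall_mem_cons.2 ⟨mat9_ok, 
    (List.forall_mem_cons.2 ⟨mat10_ok, 
    (List.forall_mem_cons.2 ⟨mat11_ok, 
    (List.forall_mem_cons.2 ⟨mat12_ok, 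
    (List.forall_mem_cons.2 ⟨mat13_ok, 
    (List.forall_mem_cons.2 ⟨mat14_ok, 
    (List.forall_mem_cons.2 ⟨mat15_ok, 
    (List.forall_mem_cons.2 ⟨mat16_ok, 
    (List.forall_mem_cons.2 ⟨mat17_ok, 
    (List.forall_mem_cons.2 ⟨mat18_ok, 
    (List.forall_mem_cons.2 ⟨mat19_ok, 
    (List.forall_mem_cons.2 ⟨mat20_ok, 
    (List.forall_mem_cons.2 ⟨mat21_ok, 
    (List.forall_mem_cons.2 ⟨mat22_ok, 
    (List.forall_mem_cons.2 ⟨mat23_ok, 
    (List.forall_mem_cons.2 ⟨mat24_ok, 
    (List.forall_mem_cons.2 ⟨mat25_ok, 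
    (List.forall_mem_cons.2 ⟨mat26_ok, 
    (List.forall_mem_cons.2 ⟨mat27_ok, 
    (List.forall_mem_cons.2 ⟨mat28_ok, 
    (List.forall_mem_cons.2 ⟨mat29_ok, 
    (List.forall_mem_cons.2 ⟨mat30_ok, 
    (List.forall_mem_cons.2 ⟨mat31_ok, 
    (List.forall_mem_cons.2 ⟨mat32_ok, 
    (List.forall_mem_cons.2 ⟨mat33_ok, 
    (List.forall_mem_cons.2 ⟨mat34_ok, 
    (List.forall_mem_cons.2 ⟨mat35_ok, 
    (List.forall_mem_cons.2 ⟨mat36_ok, 
    (List.forall_mem_cons.2 ⟨mat37_ok, 
    (List.forall_mem_cons.2 ⟨mat38_ok, 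
    (List.forall_mem_cons.2 ⟨mat39_ok, 
    (List.forall_mem_cons.2 ⟨mat40_ok, 
    (List.forall_mem_cons.2 ⟨mat41_ok, 
    (List.forall_mem_cons.2 ⟨mat42_ok, 
    (List.forall_mem_cons.2 ⟨mat43_ok, 
    (List.forall_mem_cons.2 ⟨mat44_ok, 
    (List.forall_mem_cons.2 ⟨mat45_ok, 
    (List.forall_mem_cons.2 ⟨mat46_ok, 
    (List.forall_mem_cons.2 ⟨mat47_ok, 
    (List.forall_mem_cons.2 ⟨mat48_ok, 
    (List.forall_mem_cons.2 ⟨mat49_ok, 
    (List.forall_mem_cons.2 ⟨mat50_ok, 
    (List.forall_mem_cons.2 ⟨mat51_ok, 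
    (List.forall_mem_cons.2 ⟨mat52_ok, List.forall_mem_nil _⟩)⟩)⟩)⟩)⟩)⟩)⟩)⟩)⟩)⟩)⟩)⟩)⟩)⟩)⟩)⟩)⟩)⟩)⟩)⟩)⟩)⟩)⟩)⟩)⟩)⟩)⟩)⟩)⟩)⟩)⟩)⟩)⟩)⟩)⟩)⟩)⟩)⟩)⟩)⟩)⟩)⟩)⟩)⟩)⟩)⟩)⟩)⟩)⟩)⟩)⟩)⟩)⟩)

end CfsgLib.ChevMult.F4Two
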