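/-
Conjugation by Weyl involution 3 permutes the root involutions.
-/
import Cfsg.Agent.ChevMult.F4Two.MatCheck
import Cfsg.Agent.Coset.Table

set_option autoImplicit false
set_option maxRecDepth 100000
set_option Elab.async false

namespace CfsgLib.ChevMult.F4Two

open CfsgLib.Chev (allBlock allBlock_apply)

theorem conj3_0 : allBlock (chkConj 3) 0 4 = true := by decide +kernel

theorem conj3_1 : allBlock (chkConj 3) 4 4 = true := by decide +kernel

theorem conj3_2 : allBlock (chkConj 3) 8 4 = true := by decide +kernel

theorem conj3_3 : allBlock (chkConj 3) 12 4 = true := by decide +kernel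

theorem conj3_4 : allBlock (chkConj 3) 16 4 = true := by decide +kernel

theorem conj3_5 : allBlock (chkConj 3) 20 4 = true := by decide +kernel

theorem conj3_6 : allBlock (chkConj 3) 24 4 = true := by decide +kernel

theorem conj3_7 : allBlock (chkConj 3) 28 4 = true := by decide +kernel

theorem conj3_8 : allBlock (chkConj 3) 32 4 = true := by decide +kernel

theorem conj3_9 : allBlock (chkConj 3) 36 4 = true := by decide +kernel

theorem conj3_10 : allBlock (chkConj 3) 40 4 = true := by decide +kernel

theorem conj3_11 : allBlock (chkConj 3) 44 4 = true := by decide +kernel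

theorem conj3 (r : ℕ) (hr : r < 48) : chkConj 3 r = true := by
  by_cases h0 : r < 4
  · exact allBlock_apply conj3_0 r (by omega) (by omega)
  by_cases h1 : r < 8
  · exact allBlock_apply conj3_1 r (by omega) (by omega)
  by_cases h2 : r < 12
  · exact allBlock_apply conj3_2 r (by omega) (by omega)
  by_cases h3 : r < 16
  · exact allBlock_apply conj3_3 r (by omega) (by omega)
  by_cases h4 : r < 20
  · exact allBlock_apply conj3_4 r (by omega) (by omega)
  by_cases h5 : r < 24
  · exact allBlock_apply conj3_5 r (by omega) (by omega)
  by_cases h6 : r < 28
  · exact allBlock_apply conj3_6 r (by omega) (by omega)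
  by_cases h7 : r < 32
  · exact allBlock_apply conj3_7 r (by omega) (by omega)
  by_cases h8 : r < 36
  · exact allBlock_apply conj3_8 r (by omega) (by omega)
  by_cases h9 : r < 40
  · exact allBlock_apply conj3_9 r (by omega) (by omega)
  by_cases h10 : r < 44
  · exact allBlock_apply conj3_10 r (by omega) (by omega)
  exact allBlock_apply conj3_11 r (by omega) (by omega)

end CfsgLib.ChevMult.F4Two
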