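/-
The relations at the representatives of the orbits of pairs of roots, and the Weyl involutions.
-/
import Cfsg.Agent.ChevMult.F4Two.MatCheck

set_option autoImplicit false
set_option maxRecDepth 100000
set_option Elab.async false

namespace CfsgLib.ChevMult.F4Two

theorem rep0 : chkRep (0, 0) = true := by decide +kernel

theorem rep1 : chkRep (3, 3) = true := by decide +kernel

theorem rep2 : chkRep (0, 1) = true := by decide +kernel

theorem rep3 : chkRep (0, 3) = true := by decide +kernel

theorem rep4 : chkRep (0, 6) = true := by decide +kernel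

theorem rep5 : chkRep (0, 10) = true := by decide +kernel

theorem rep6 : chkRep (0, 24) = true := by decide +kernel

theorem rep7 : chkRep (0, 29) = true := by decide +kernel

theorem rep8 : chkRep (3, 0) = true := by decide +kernel

theorem rep9 : chkRep (3, 7) = true := by decide +kernel

theorem rep10 : chkRep (3, 15) = true := by decide +kernel

theorem rep11 : chkRep (3, 18) = true := by decide +kernel

theorem rep12 : chkRep (3, 33) = true := by decide +kernel

theorem rep13 : chkRep (3, 41) = true := by decide +kernel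

theorem rep_ok : ∀ p ∈ repL, chkRep p = true :=
  
    (List.forall_mem_cons.2 ⟨rep0, 
    (List.forall_mem_cons.2 ⟨rep1, 
    (List.forall_mem_cons.2 ⟨rep2, 
    (List.forall_mem_cons.2 ⟨rep3, 
    (List.forall_mem_cons.2 ⟨rep4, 
    (List.forall_mem_cons.2 ⟨rep5, 
    (List.forall_mem_cons.2 ⟨rep6, 
    (List.forall_mem_cons.2 ⟨rep7, 
    (List.forall_mem_cons.2 ⟨rep8, 
    (List.forall_mem_cons.2 ⟨rep9, 
    (List.forall_mem_cons.2 ⟨rep10, 
    (List.forall_mem_cons.2 ⟨rep11, 
    (List.forall_mem_cons.2 ⟨rep12, 
    (List.forall_mem_cons.2 ⟨rep13, List.forall_mem_nil _⟩)⟩)⟩)⟩)⟩)⟩)⟩)⟩)⟩)⟩)⟩)⟩)⟩)⟩)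

theorem weyl0 : eqW [48, 48] [] = true := by decide +kernel

theorem weyl1 : eqW [49, 49] [] = true := by decide +kernel

theorem weyl2 : eqW [50, 50] [] = true := by decide +kernel

theorem weyl3 : eqW [51, 51] [] = true := by decide +kernel

theorem neg_one_sq : eqW [52, 52] [] = true := by decide +kernel

end CfsgLib.ChevMult.F4Two
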