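/-
Fifty-two dimensional matrices over five elements satisfying the commutator formulas of the group of
type F4 over two elements with a sign at the formulas with two roots.
-/
import Cfsg.Agent.ChevMult.F4Two.MatConj0
import Cfsg.Agent.ChevMult.F4Two.MatConj1
import Cfsg.Agent.ChevMult.F4Two.MatConj2
import Cfsg.Agent.ChevMult.F4Two.MatConj3
import Cfsg.Agent.ChevMult.F4Two.MatReps
import Mathlib.LinearAlgebra.Matrix.GeneralLinearGroup.Defs

set_option autoImplicit false
set_option maxRecDepth 100000

namespace CfsgLib.ChevMult.F4Two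

open CfsgLib.Chev (allBelow_iff)
open CfsgLib.Coset.Ly (matOf matWord vrun encF code code_injective code_single vrun_code)
open scoped Matrix

/-- matrices of degree 52 over five elements -/
abbrev M52 := Matrix (Fin 52) (Fin 52) (ZMod 5)

/-- a listed matrix -/
def mt (l : ℕ) : M52 := matOf 52 (matL.getD l [])

theorem matWord_eq (u : List ℕ) : matWord 52 matL u = (u.map mt).prod := rfl

theorem eqW_spec {u v : List ℕ} (hu : ∀ l ∈ u, l < 53) (hv : ∀ l ∈ v, l < 53)
    (h : eqW u v = true) : (u.map mt).prod = (v.map mt).prod := by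
  have hlen : matL.length = 53 := rfl
  rw [← matWord_eq, ← matWord_eq]
  refine Matrix.ext fun i j => ?_
  have h1 := Nat.eq_of_beq_eq_true ((allBelow_iff _ _).1 h i i.2)
  rw [mask52_eq] at h1
  change vrun _ matL (2 ^ (24 * (i : ℕ))) u = vrun _ matL (2 ^ (24 * (i : ℕ))) v at h1
  rw [← code_single 52 i, vrun_code (by norm_num) matL_ok u (by rw [hlen]; exact hu),
    vrun_code (by norm_num) matL_ok v (by rw [hlen]; exact hv)] at h1
  have h2 := congrFun (code_injective h1) j
  rwa [Matrix.single_one_vecMul, Matrix.single_one_vecMul] at h2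

theorem mt_neg_one : mt 52 = -1 := by
  have h : CfsgLib.Chev.allBelow (fun i => CfsgLib.Chev.allBelow (fun j =>
      Nat.beq (CfsgLib.Coset.Ly.lane ((matL.getD 52 []).getD i 0) j)
        (cond (Nat.beq i j) 4 0)) 52) 52 = true := by decide +kernel
  refine Matrix.ext fun i j => ?_
  have e := Nat.eq_of_beq_eq_true ((allBelow_iff _ _).1 ((allBelow_iff _ _).1 h i i.2) j j.2)
  show ((CfsgLib.Coset.Ly.lane ((matL.getD 52 []).getD i 0) j : ℕ) : ZMod 5) = _
  rw [e, Matrix.neg_apply, Matrix.one_apply]
  by_cases hij : i = j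
  · subst hij
    rw [if_pos rfl, show Nat.beq (i : ℕ) i = true by simp [Nat.beq_eq], cond_true]
    rfl
  · rw [if_neg hij, show Nat.beq (i : ℕ) j = false by
      rw [Bool.eq_false_iff, ne_eq, Nat.beq_eq]; exact fun h => hij (Fin.ext h), cond_false]
    simp

/-- the sign of a relation -/
def sgnM (n : ℕ) : M52 := if n = 2 then -1 else 1

/-- the relation of a pair of roots with a list of roots on the right -/
def Rel (r s : ℕ) (L : List ℕ) : Prop :=
  ((lhsW r s).map mt).prod = sgnM L.length * (L.map mt).prod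

theorem mt_conj {i r : ℕ} (hi : i < 4) (hr : r < 48) :
    sg i r < 48 ∧ mt (48 + i) * mt r * mt (48 + i) = mt (sg i r) := by
  have hNN : mt (48 + i) * mt (48 + i) = 1 := by
    have hw : eqW [48 + i, 48 + i] [] = true := by
      interval_cases i
      · exact weyl0
      · exact weyl1
      · exact weyl2
      · exact weyl3
    simpa using eqW_spec (by simp; omega) (by simp) hw
  have hall : ∀ r < 48, chkConj i r = true := by
    interval_cases i
    · exact conj0
    · exact conj1
    · exact conj2
    · exact conj3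
  have key : ∀ r < 48, ∀ t, sg i r = t → t < 48 → eqW [48 + i, r] [t, 48 + i] = true →
      mt (48 + i) * mt r * mt (48 + i) = mt t := by
    intro r hr t _ ht he
    have e : mt (48 + i) * mt r = mt t * mt (48 + i) := by
      simpa using eqW_spec (by simp; omega) (by simp; omega) he
    rw [e, mul_assoc, hNN, mul_one]
  have h := hall r hr
  simp only [chkConj, Bool.and_eq_true, Bool.or_eq_true, Nat.blt_eq, Nat.beq_eq] at h
  obtain ⟨⟨hlt, hback⟩, hcase⟩ := h
  refine ⟨hlt, ?_⟩
  rcases hcase with hcase | hcase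
  · -- the check was made at the image
    have h' := hall _ hlt
    simp only [chkConj, Bool.and_eq_true, Bool.or_eq_true, Nat.blt_eq, Nat.beq_eq, hback] at h'
    have e := key _ hlt r hback hr (h'.2.resolve_left (by omega))
    rw [← e]
    simp only [← mul_assoc, hNN, one_mul]
    rw [mul_assoc, hNN, mul_one]
  · exact key r hr _ rfl hlt hcase

theorem conj_prod {N : M52} (hN : N * N = 1) : ∀ (L : List M52),
    (L.map fun A => N * A * N).prod = N * L.prod * N
  | [] => by rw [List.map_nil, List.prod_nil, mul_one, hN]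
  | A :: L => by
    rw [List.map_cons, List.prod_cons, List.prod_cons, conj_prod hN L]
    calc N * A * N * (N * L.prod * N) = N * A * (N * N) * L.prod * N := by simp only [mul_assoc]
      _ = N * (A * L.prod) * N := by rw [hN, mul_one]; simp only [mul_assoc]

theorem rel_step {i r s : ℕ} (hi : i < 4) (hr : r < 48) (hs : s < 48) {L : List ℕ}
    (hL : ∀ c ∈ L, c < 48) (hrs : Nat.beq (sg i r) (sg i s) = Nat.beq r s) (h : Rel r s L) :
    Rel (sg i r) (sg i s) (L.map (sg i)) := by
  have hNN : mt (48 + i) * mt (48 + i) = 1 := by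
    have hw : eqW [48 + i, 48 + i] [] = true := by
      interval_cases i
      · exact weyl0
      · exact weyl1
      · exact weyl2
      · exact weyl3
    simpa using eqW_spec (by simp; omega) (by simp) hw
  have hmap : ∀ l : List ℕ, (∀ c ∈ l, c < 48) →
      ((l.map (sg i)).map mt).prod = mt (48 + i) * (l.map mt).prod * mt (48 + i) := by
    intro l hl
    rw [← conj_prod hNN, List.map_map, List.map_map]
    exact congrArg List.prod (List.map_congr_left fun c hc => ((mt_conj hi (hl c hc)).2).symm)
  have hlhs : lhsW (sg i r) (sg i s) = (lhsW r s).map (sg i) := by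
    simp only [lhsW, hrs]
    split <;> rfl
  have hl48 : ∀ c ∈ lhsW r s, c < 48 := by
    intro c hc
    simp only [lhsW] at hc
    split at hc <;> simp only [List.mem_cons, List.not_mem_nil, or_false] at hc <;>
      rcases hc with rfl | hc <;> first | assumption | (rcases hc with rfl | rfl | rfl <;> assumption) | (subst hc; assumption)
  unfold Rel at h ⊢
  rw [hlhs, hmap _ hl48, hmap _ hL, h, List.length_map]
  unfold sgnM
  split <;> simp [mul_assoc]

theorem along_spec : ∀ (wd : List ℕ), (∀ i ∈ wd, i < 4) → ∀ r < 48, along wd r < 48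
  | [], _, r, hr => hr
  | i :: wd, h, r, hr =>
    (mt_conj (h i (by simp)) (along_spec wd (fun j hj => h j (by simp [hj])) r hr)).1

theorem rel_along : ∀ (wd : List ℕ), (∀ i ∈ wd, i < 4) → ∀ {r s : ℕ}, r < 48 → s < 48 →
    ∀ {L : List ℕ}, (∀ c ∈ L, c < 48) →
    Nat.beq (along wd r) (along wd s) = Nat.beq r s → Rel r s L →
    Rel (along wd r) (along wd s) (L.map (along wd))
  | [], _, r, s, _, _, L, _, _, h => by
    rw [show along [] = id from rfl, List.map_id]
    exact h
  | i :: wd, hwd, r, s, hr, hs, L, hL, heq, h => by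
    have hi := hwd i (by simp)
    have hwd' : ∀ j ∈ wd, j < 4 := fun j hj => hwd j (by simp [hj])
    have e1 : Nat.beq (along wd r) (along wd s) = Nat.beq r s := by
      rw [Bool.eq_iff_iff]
      simp only [Nat.beq_eq]
      refine ⟨fun e => ?_, fun e => by rw [e]⟩
      have e' : Nat.beq (along (i :: wd) r) (along (i :: wd) s) = true := by
        rw [Nat.beq_eq]; show sg i (along wd r) = sg i (along wd s); rw [e]
      rw [heq, Nat.beq_eq] at e'
      exact e'
    have h' := rel_step hi (along_spec wd hwd' r hr) (along_spec wd hwd' s hs)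
      (L := L.map (along wd)) (by
        intro c hc
        obtain ⟨d, hd, rfl⟩ := List.mem_map.1 hc
        exact along_spec wd hwd' d (hL d hd))
      (by rw [e1]; exact heq) (rel_along wd hwd' hr hs hL e1 h)
    rw [List.map_map] at h'
    exact h'

theorem rel_or {r s : ℕ} (hr : r < 48) (hs : s < 48) (h : (Nat.beq r s || adj r s) = true) :
    Rel r s (rhsL r s) ∨ Rel r s (rhsL r s).reverse := by
  have hp := (allBelow_iff _ _).1 ((allBelow_iff _ _).1 path_ok r hr) s hs
  simp only [chkPath, h, Bool.not_true, Bool.false_or, Bool.and_eq_true, Bool.or_eq_true,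
    decide_eq_true_eq, List.all_eq_true, Nat.blt_eq] at hp
  obtain ⟨⟨⟨⟨⟨hwd, hk⟩, ha⟩, hb⟩, hx⟩, hL⟩ := hp
  set wd := (pathOf r s).1
  set p := (pathOf r s).2 with hp'
  have hmem : p ∈ repL := by
    rw [hp', pathOf, List.getD_eq_getElem _ _ hk]
    exact List.getElem_mem hk
  have hc := rep_ok p hmem
  simp only [chkRep, Bool.and_eq_true, Nat.blt_eq, List.all_eq_true] at hc
  obtain ⟨⟨⟨h1, h2⟩, h3⟩, h4⟩ := hc
  have hbase : Rel p.1 p.2 (rhsL p.1 p.2) := by
    have e := eqW_spec (fun l hl => ?_) (fun l hl => ?_) h4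
    · rw [Rel, e, List.map_append, List.prod_append]
      congr 1
      unfold sgnW sgnM
      by_cases hl : (rhsL p.1 p.2).length = 2
      · rw [if_pos (by rw [hl]; rfl), if_pos hl]
        simp [mt_neg_one]
      · rw [if_neg (by rwa [Nat.beq_eq]), if_neg hl]
        rfl
    · simp only [lhsW] at hl
      split at hl <;> simp at hl <;> omega
    · simp only [sgnW, List.mem_append] at hl
      rcases hl with hl | hl
      · split at hl <;> simp at hl; omega
      · have := h3 l hl; omega
  have ha' := Nat.eq_of_beq_eq_true ha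
  have hb' := Nat.eq_of_beq_eq_true hb
  have heq : Nat.beq (along wd p.1) (along wd p.2) = Nat.beq p.1 p.2 := by
    rw [ha', hb']
    revert hx
    cases Nat.beq p.1 p.2 <;> cases Nat.beq r s <;> simp
  have hfin := rel_along wd hwd h1 h2 h3 heq hbase
  rw [ha', hb'] at hfin
  rcases hL with e | e <;> rw [e] at hfin
  · exact Or.inl hfin
  · exact Or.inr hfin

theorem mt_sq {r : ℕ} (hr : r < 48) : mt r * mt r = 1 := by
  have h := rel_or hr hr (by simp [Nat.beq_eq])
  simp [Rel, lhsW, rhsL, sgnM, Nat.beq_eq] at h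
  exact h

/-- the root involutions as invertible matrices -/
noncomputable def U (r : ℕ) : GL (Fin 52) (ZMod 5) :=
  if h : r < 48 then ⟨mt r, mt r, mt_sq h, mt_sq h⟩ else 1

theorem U_val {r : ℕ} (hr : r < 48) : ((U r : GL (Fin 52) (ZMod 5)) : M52) = mt r := by
  rw [U, dif_pos hr]

theorem U_inv {r : ℕ} (hr : r < 48) : (U r)⁻¹ = U r := by
  rw [U, dif_pos hr]; rfl

theorem U_prod {L : List ℕ} (hL : ∀ c ∈ L, c < 48) :
    (((L.map U).prod : GL (Fin 52) (ZMod 5)) : M52) = (L.map mt).prod := by
  induction L with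
  | nil => rfl
  | cons c L ih =>
    rw [List.map_cons, List.map_cons, List.prod_cons, List.prod_cons, Units.val_mul,
      U_val (hL c (by simp)), ih fun d hd => hL d (by simp [hd])]

open scoped commutatorElement in
theorem rel_U {r s : ℕ} (h : adj r s = true) :
    ⁅U r, U s⁆ = (if (w r s).length = 2 then -1 else 1) * ((w r s).map U).prod := by
  obtain ⟨hr, hs, hne, -⟩ := adj_iff.1 h
  have hbne : Nat.beq r s = false := by rwa [Bool.eq_false_iff, ne_eq, Nat.beq_eq]
  have hlt : ∀ c ∈ w r s, c < 48 := (shape' h).1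
  have key : ∀ L : List ℕ, (∀ c ∈ L, c < 48) → Rel r s L →
      ⁅U r, U s⁆ = (if L.length = 2 then -1 else 1) * (L.map U).prod := by
    intro L hL hRel
    refine Units.ext ?_
    rw [commutatorElement_def, U_inv hr, U_inv hs, Units.val_mul, Units.val_mul, Units.val_mul,
      Units.val_mul, U_val hr, U_val hs, U_prod hL]
    simp only [Rel, lhsW, hbne, Bool.false_eq_true, if_false, List.map_cons, List.map_nil,
      List.prod_cons, List.prod_nil, mul_one] at hRel
    rw [← mul_assoc, ← mul_assoc] at hRel
    rw [hRel, sgnM]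
    split <;> simp
  have hor := rel_or hr hs (by rw [hbne, h]; rfl)
  simp only [rhsL, hbne, Bool.false_eq_true, if_false] at hor
  rcases hor with hR | hR
  · exact key _ hlt hR
  · rw [key _ (fun c hc => hlt c (List.mem_reverse.1 hc)) hR, List.length_reverse]
    congr 1
    rcases e : w r s with _ | ⟨p, _ | ⟨q, _ | ⟨t, l⟩⟩⟩
    · rfl
    · rfl
    · obtain ⟨hpl, hql, hpq⟩ := (shape' h).2.1 p q e
      rcases hpq with rfl | ⟨hadj, hnil⟩
      · rfl
      have hp2 := rel_or hpl hql (by simp [hadj])
      have hbpq : Nat.beq p q = false := by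
        rw [Bool.eq_false_iff, ne_eq, Nat.beq_eq]; exact (adj_iff.1 hadj).2.2.1
      simp only [rhsL, hbpq, Bool.false_eq_true, if_false, hnil, List.reverse_nil, or_self] at hp2
      have hcomm : ⁅U p, U q⁆ = 1 := by
        refine Units.ext ?_
        simp only [Rel, lhsW, hbpq, Bool.false_eq_true, if_false, List.map_cons, List.map_nil,
          List.prod_cons, List.prod_nil, mul_one, sgnM, List.length_nil] at hp2
        rw [← mul_assoc, ← mul_assoc] at hp2
        rw [commutatorElement_def, U_inv hpl, U_inv hql, Units.val_mul, Units.val_mul,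
          Units.val_mul, U_val hpl, U_val hql, hp2]
        simp
      simpa using (commutatorElement_eq_one_iff_commute.1 hcomm).symm.eq
    · have := (shape' h).2.2
      rw [e] at this
      simp at this
where
  shape' {r s : ℕ} (h : adj r s = true) : (∀ c ∈ w r s, c < 48) ∧
      (∀ p q, w r s = [p, q] → p < 48 ∧ q < 48 ∧ (p = q ∨ (adj p q = true ∧ w p q = []))) ∧
      (w r s).length ≤ 2 := by
    obtain ⟨hr, hs, -, -⟩ := adj_iff.1 h
    have hs' := (allBelow_iff _ _).1 ((allBelow_iff _ _).1 shape_ok r hr) s hs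
    simp only [chkShape, h, Bool.not_true, Bool.false_or, Bool.and_eq_true, List.all_eq_true,
      Nat.ble_eq, Nat.blt_eq] at hs'
    refine ⟨hs'.1.2, fun p q e => ⟨hs'.1.2 p (by rw [e]; simp), hs'.1.2 q (by rw [e]; simp), ?_⟩,
      hs'.1.1.2⟩
    have h' := (allBelow_iff _ _).1 ((allBelow_iff _ _).1 pair_ok r hr) s hs
    simp only [chkPair, h, e, com, isNil, Bool.or_eq_true, Bool.and_eq_true] at h'
    rcases h' with ⟨-, h'⟩ | ⟨h1, h2⟩
    · exact Or.inl (Nat.eq_of_beq_eq_true h')
    · exact Or.inr ⟨h1, List.isEmpty_iff.1 h2⟩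
  adj_iff {a b : ℕ} : adj a b = true ↔ a < 48 ∧ b < 48 ∧ a ≠ b ∧ a ≠ 47 - b := by
    simp [adj, and_assoc, Bool.eq_false_iff, Nat.beq_eq]

end CfsgLib.ChevMult.F4Two
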