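/-
The double cover of the group of type F4 over two elements, and the multiplier.
-/
import Cfsg.Agent.ChevMult.F4Two.Bound
import Cfsg.Agent.ChevMult.F4Two.MatRel
import Cfsg.Agent.Chev.SimpleData
import Cfsg.Agent.Chev.Perfect
import Cfsg.Agent.DMult.StemBound

set_option autoImplicit false
set_option maxRecDepth 4000

namespace CfsgLib.ChevMult.F4Two

open Cfsg.Lie CfsgLib.Chev
open scoped commutatorElement MatrixGroups

universe u

/-- the group generated by the matrices -/
noncomputable def Gam : Subgroup (GL (Fin 52) (ZMod 5)) :=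
  Subgroup.closure (U '' Set.Iio 48)

theorem U_mem {r : ℕ} (hr : r < 48) : U r ∈ Gam :=
  Subgroup.subset_closure ⟨r, hr, rfl⟩

/-- a root involution of the cover -/
noncomputable def V (r : ℕ) : Gam := if h : r < 48 then ⟨U r, U_mem h⟩ else 1

theorem coe_V {r : ℕ} (hr : r < 48) : (V r : GL (Fin 52) (ZMod 5)) = U r := by
  rw [V, dif_pos hr]

theorem coe_V_prod {L : List ℕ} (hL : ∀ c ∈ L, c < 48) :
    ((L.map V).prod : Gam).1 = (L.map U).prod := by
  rw [Subgroup.val_list_prod, List.map_map]
  exact congrArg List.prod (List.map_congr_left fun c hc => coe_V (hL c hc))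

theorem V_sq (r : ℕ) : V r * V r = 1 := by
  rcases lt_or_ge r 48 with h | h
  · refine Subtype.ext ?_
    rw [Subgroup.coe_mul, coe_V h, Subgroup.coe_one, ← mul_eq_one_iff_inv_eq.2 (U_inv h)]
  · rw [V, dif_neg (by omega), mul_one]

theorem neg_one_mem : (-1 : GL (Fin 52) (ZMod 5)) ∈ Gam := by
  have hb : adj base.1 base.2 = true ∧ (w base.1 base.2).length = 2 := by decide +kernel
  obtain ⟨hr, hs, -, -⟩ := adj_iff.1 hb.1
  have h := rel_U hb.1
  rw [if_pos hb.2, ← mul_inv_eq_iff_eq_mul] at h
  rw [← h]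
  refine Gam.mul_mem ?_ (Gam.inv_mem (Gam.list_prod_mem fun y hy => ?_))
  · rw [commutatorElement_def]
    exact Gam.mul_mem (Gam.mul_mem (Gam.mul_mem (U_mem hr) (U_mem hs))
      (Gam.inv_mem (U_mem hr))) (Gam.inv_mem (U_mem hs))
  · obtain ⟨c, hc, rfl⟩ := List.mem_map.1 hy
    exact U_mem ((shape hb.1).2.2.2.1 c hc)

/-- minus one in the cover -/
noncomputable def negV : Gam := ⟨-1, neg_one_mem⟩

theorem negV_sq : negV * negV = 1 := Subtype.ext (by simp [negV])

theorem negV_ne : negV ≠ 1 := by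
  intro h
  have h1 : (-1 : M52) = 1 := congrArg (fun g : Gam => ((g.1 : GL (Fin 52) (ZMod 5)) : M52)) h
  have h2 := congrFun (congrFun h1 0) 0
  rw [Matrix.neg_apply, Matrix.one_apply_eq] at h2
  exact absurd h2 (by decide)

theorem negV_comm (g : Gam) : g * negV = negV * g := Subtype.ext (by simp [negV])

/-- the centre of order two -/
noncomputable def Z : Subgroup Gam := Subgroup.zpowers negV

theorem Z_le_center : Z ≤ Subgroup.center Gam :=
  Subgroup.zpowers_le.2 (Subgroup.mem_center_iff.2 negV_comm)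

instance : Z.Normal :=
  ⟨fun n hn g => by
    rw [Subgroup.mem_center_iff.1 (Z_le_center hn) g, mul_inv_cancel_right]; exact hn⟩

theorem card_Z : Nat.card Z = 2 := by
  rw [Z, Nat.card_zpowers]
  exact orderOf_eq_prime (by rw [pow_two, negV_sq]) negV_ne

theorem V_comm {r s : ℕ} (h : adj r s = true) :
    ∃ z ∈ Z, ⁅V r, V s⁆ = z * ((w r s).map V).prod := by
  obtain ⟨hr, hs, -, -⟩ := adj_iff.1 h
  refine ⟨if (w r s).length = 2 then negV else 1, ?_, Subtype.ext ?_⟩
  · split
    · exact Subgroup.mem_zpowers _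
    · exact one_mem _
  · rw [Subgroup.coe_mul, coe_V_prod (shape h).2.2.2.1]
    show ⁅(V r).1, (V s).1⁆ = _
    rw [coe_V hr, coe_V hs, rel_U h]
    split <;> rfl

theorem perfect : commutator Gam = ⊤ := by
  have hV : ∀ c < 48, V c ∈ commutator Gam := by
    intro c hc
    have h := (allBelow_iff _ _).1 pref_ok c hc
    simp only [chkPref, Bool.and_eq_true] at h
    obtain ⟨ha, hb, -, hw⟩ := one_lt h.1.1
    have hadj : adj (prefOf c).1 (prefOf c).2 = true := by
      have h' := h.1.1
      simp only [one, Bool.and_eq_true] at h'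
      exact h'.1.1
    have e : ⁅V (prefOf c).1, V (prefOf c).2⁆ = V c := by
      refine Subtype.ext ?_
      show ⁅(V (prefOf c).1).1, (V (prefOf c).2).1⁆ = _
      rw [coe_V ha, coe_V hb, coe_V hc, rel_U hadj, hw]
      simp
    rw [← e, commutator_def]
    exact Subgroup.commutator_mem_commutator (Subgroup.mem_top _) (Subgroup.mem_top _)
  have hle : Gam ≤ (commutator Gam).map Gam.subtype :=
    (Subgroup.closure_le _).2 (by
      rintro y ⟨r, hr, rfl⟩
      exact ⟨V r, hV r hr, coe_V hr⟩)
  refine eq_top_iff.2 fun g _ => ?_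
  obtain ⟨g', hg', e⟩ := hle g.2
  exact (Subtype.ext e : g' = g) ▸ hg'

/-- a group of order two -/
theorem equiv_of_card_two {H : Type u} [Group H] (h : Nat.card H = 2) :
    Nonempty (H ≃* Multiplicative (ZMod 2)) := by
  haveI : Fact (Nat.Prime 2) := ⟨Nat.prime_two⟩
  haveI : IsCyclic H := isCyclic_of_prime_card h
  exact ⟨mulEquivOfCyclicCardEq
    (by rw [h, Nat.card_congr Multiplicative.toAdd, Nat.card_zmod])⟩

variable {F : Type u} [Field F]

/-- The map from the group of type F4 onto the quotient of the cover. -/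
theorem exists_equiv [Finite F] (hc : TwoEl F) : Nonempty (chevF4.group F ≃* Gam ⧸ Z) := by
  classical
  let xb : ℕ → F → Gam ⧸ Z := fun r t => if t = 0 then 1 else QuotientGroup.mk' Z (V r)
  have hxb1 : ∀ r, xb r 1 = QuotientGroup.mk' Z (V r) := fun r => if_neg one_ne_zero
  have hxb0 : ∀ r, xb r 0 = 1 := fun r => if_pos rfl
  have hadd : ∀ r, ∀ t u, xb r t * xb r u = xb r (t + u) := by
    intro r t u
    rcases hc.2 t with rfl | rfl
    · rw [hxb0, one_mul, zero_add]
    rcases hc.2 u with rfl | rfl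
    · rw [hxb0, mul_one, add_zero]
    rw [show (1 : F) + 1 = 0 by linear_combination hc.1, hxb0, hxb1, ← map_mul, V_sq, map_one]
  have hVinv : ∀ r, (V r)⁻¹ = V r := fun r => inv_eq_of_mul_eq_one_left (V_sq r)
  have hcomm : ∀ r < chevF4.nroots, ∀ s < chevF4.nroots, s ≠ r → s ≠ Tab.negR chevF4 r → ∀ t u,
      (xb s u)⁻¹ * (xb r t)⁻¹ * xb s u * xb r t =
        ((rhsWord (F4Data.tab.commT r s) t u).map fun p => xb p.1 p.2).prod := by
    intro r hr s hs hne hne' t u
    have hadj : adj s r = true := adj_iff.2 ⟨hs, hr, hne, hne'⟩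
    have hexp : ∀ c ∈ F4Data.tab.commT r s, expOk c = true := (shape hadj).2.1
    have hzero : t = 0 ∨ u = 0 →
        ((rhsWord (F4Data.tab.commT r s) t u).map fun p => xb p.1 p.2).prod = 1 := by
      intro h0
      refine List.prod_eq_one fun y hy => ?_
      simp only [rhsWord, List.map_map, List.mem_map, Function.comp_apply] at hy
      obtain ⟨c, hc', rfl⟩ := hy
      have he := hexp c hc'
      simp only [expOk, Bool.and_eq_true, Bool.not_eq_true', Bool.eq_false_iff, ne_eq,
        Nat.beq_eq] at he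
      rcases h0 with rfl | rfl
      · rw [neg_zero, zero_pow he.1, mul_zero, zero_mul, hxb0]
      · rw [zero_pow he.2, mul_zero, hxb0]
    rcases hc.2 t with rfl | rfl
    · rw [hzero (Or.inl rfl), hxb0]; group
    rcases hc.2 u with rfl | rfl
    · rw [hzero (Or.inr rfl), hxb0]; group
    rw [prod_rhs hc xb hxb0, hxb1, hxb1, ← map_inv, ← map_inv, hVinv, hVinv,
      ← map_mul, ← map_mul, ← map_mul]
    have e : V s * V r * V s * V r = ⁅V s, V r⁆ := by
      rw [commutatorElement_def, hVinv, hVinv]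
    obtain ⟨z, hz, hsr⟩ := V_comm hadj
    rw [e, hsr, map_mul, map_list_prod, List.map_map,
      show QuotientGroup.mk' Z z = 1 from (QuotientGroup.eq_one_iff z).2 hz, one_mul]
    simp only [w, List.map_map, Function.comp_def, hxb1]
  let f : Fin chevF4.nroots × F → Gam ⧸ Z := fun p => xb p.1.val p.2
  have hX : ∀ r < chevF4.nroots, ∀ t, FreeGroup.lift f (chevF4.stX r t) = xb r t :=
    fun r hr t => by simp [ChevalleyDatum.stX, hr, f]
  have hrels : ∀ g ∈ chevF4.steinbergRelsAB F, FreeGroup.lift f g = 1 := by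
    rintro g (⟨r, t, u, hr, rfl⟩ | ⟨r, s, t, u, hr, hs, hne, hne', rfl⟩)
    · rw [map_mul, map_mul, map_inv, hX r hr, hX r hr, hX r hr, hadd, mul_inv_cancel]
    · rw [good_F4.full.cert.neg_eq hr] at hne'
      rw [map_mul, map_mul, map_mul, map_mul, map_inv, map_inv, map_inv, hX r hr, hX s hs,
        hcomm r hr s hs hne hne', mul_inv_eq_one, ChevalleyDatum.stWord, map_list_prod,
        good_F4.full.cert.commWord_eq hr hs, List.map_map]
      refine congrArg List.prod (List.map_congr_left fun p hp => ?_)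
      simp only [rhsWord, List.mem_map] at hp
      obtain ⟨c, hc', rfl⟩ := hp
      exact (hX _ (commT_lt good_F4 hr hs hc') _).symm
  have hsurj : Function.Surjective (good_F4.scθ F) := by
    rintro ⟨g, hg⟩
    rw [← (good_F4.scData (good_F4.scθ F) fun r t hr => good_F4.coe_scθ hr t).θ_range] at hg
    obtain ⟨e, he⟩ := hg
    exact ⟨e, Subtype.ext he⟩
  let e : chevF4.SteinbergCover F ≃* chevF4.group F := MulEquiv.ofBijective (good_F4.scθ F)
    ⟨(MonoidHom.ker_eq_bot_iff _).1 (scθ_ker_eq_bot good_F4 (by simp) ⟨_, wits_F4⟩ uni_F4), hsurj⟩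
  let τ0 : chevF4.SteinbergCover F →* Gam ⧸ Z := PresentedGroup.toGroup hrels
  have hτ0 : ∀ r < 48, τ0 (chevF4.scGen F r 1) = QuotientGroup.mk' Z (V r) := fun r hr =>
    (hX r hr 1).trans (hxb1 r)
  have hgen : ∀ g : Gam, QuotientGroup.mk' Z g ∈ τ0.range := by
    rintro ⟨g, hg⟩
    induction hg using Subgroup.closure_induction with
    | mem y hy =>
      obtain ⟨r, hr, rfl⟩ := hy
      have e : V r = ⟨U r, U_mem hr⟩ := Subtype.ext (coe_V hr)
      exact ⟨_, (hτ0 r hr).trans (congrArg _ e)⟩
    | one => exact ⟨1, (map_one τ0).trans (map_one (QuotientGroup.mk' Z)).symm⟩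
    | mul a b ha hb iha ihb =>
      exact (map_mul (QuotientGroup.mk' Z) ⟨a, ha⟩ ⟨b, hb⟩).symm ▸ mul_mem iha ihb
    | inv a ha iha => exact (map_inv (QuotientGroup.mk' Z) ⟨a, ha⟩).symm ▸ inv_mem iha
  let ψ : chevF4.group F →* Gam ⧸ Z := τ0.comp e.symm.toMonoidHom
  have hψs : Function.Surjective ψ := by
    intro q
    obtain ⟨g, rfl⟩ := QuotientGroup.mk'_surjective Z q
    obtain ⟨x, hx⟩ := hgen g
    exact ⟨e x, by simpa [ψ] using hx⟩
  haveI : IsSimpleGroup (chevF4.group F) :=
    (good_F4.isSimple conn_F4 perf_F4 (fun h => absurd h Bool.false_ne_true)).1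
  have hψi : Function.Injective ψ := by
    refine (MonoidHom.ker_eq_bot_iff ψ).1
      ((Subgroup.Normal.eq_bot_or_eq_top inferInstance).resolve_right fun htop => ?_)
    have hall : ∀ g : Gam, g ∈ Z := fun g => by
      obtain ⟨x, hx⟩ := hψs (QuotientGroup.mk' Z g)
      rw [show ψ x = 1 from MonoidHom.mem_ker.1 (htop ▸ Subgroup.mem_top x)] at hx
      exact (QuotientGroup.eq_one_iff g).1 hx.symm
    have h0 : V 0 = 1 ∨ V 0 = negV := by
      obtain ⟨k, hk⟩ := Subgroup.mem_zpowers_iff.1 (hall (V 0))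
      rcases Int.even_or_odd' k with ⟨j, rfl | rfl⟩
      · left; rw [← hk, zpow_mul, zpow_two, negV_sq, one_zpow]
      · right; rw [← hk, zpow_add_one, zpow_mul, zpow_two, negV_sq, one_zpow, one_mul]
    have hne : CfsgLib.Coset.Ly.lane ((matL.getD 0 []).getD 1 0) 11 = 4 := by decide +kernel
    have hm : mt 0 1 11 = 0 := by
      rcases h0 with h0 | h0
      · have := congrArg (fun g : Gam => ((g.1 : GL (Fin 52) (ZMod 5)) : M52) 1 11) h0
        simp only [coe_V (show 0 < 48 by norm_num), U_val (show 0 < 48 by norm_num)] at this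
        exact this.trans (Matrix.one_apply_ne (by decide))
      · have := congrArg (fun g : Gam => ((g.1 : GL (Fin 52) (ZMod 5)) : M52) 1 11) h0
        simp only [coe_V (show 0 < 48 by norm_num), U_val (show 0 < 48 by norm_num)] at this
        refine this.trans ?_
        show (-(1 : M52)) 1 11 = 0
        rw [Matrix.neg_apply, Matrix.one_apply_ne (by decide), neg_zero]
    change ((CfsgLib.Coset.Ly.lane ((matL.getD 0 []).getD 1 0) 11 : ℕ) : ZMod 5) = 0 at hm
    rw [hne] at hm
    exact absurd hm (by decide)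
  exact ⟨MulEquiv.ofBijective ψ ⟨hψi, hψs⟩⟩

/-- The multiplier of the group of type F4 over two elements. -/
theorem multiplier [Fintype F] (hF : Fintype.card F = 2) :
    Cfsg.HasCyclicSchurMultiplier (chevF4.group F) 2 := by
  classical
  have hc : TwoEl F := by
    have hall : ∀ t : F, t = 0 ∨ t = 1 := fun t => by
      by_contra h
      push Not at h
      have h3 : ({0, 1, t} : Finset F).card = 3 :=
        Finset.card_eq_three.2 ⟨0, 1, t, zero_ne_one, h.1.symm, h.2.symm, rfl⟩
      have := Finset.card_le_univ ({0, 1, t} : Finset F)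
      omega
    refine ⟨?_, hall⟩
    rcases hall 2 with h | h
    · exact h
    · exact absurd (show (1 : F) = 0 by linear_combination h) one_ne_zero
  haveI : Finite F := Finite.of_fintype F
  obtain ⟨ψ⟩ := exists_equiv hc
  let j : ULift.{u} Gam ≃* Gam := MulEquiv.ulift
  let τ : ULift.{u} Gam →* chevF4.group F :=
    (ψ.symm.toMonoidHom.comp (QuotientGroup.mk' Z)).comp j.toMonoidHom
  have hs : Function.Surjective τ :=
    (ψ.symm.surjective.comp (QuotientGroup.mk'_surjective Z)).comp j.surjective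
  have hk : τ.ker = Z.map j.symm.toMonoidHom := by
    ext x
    rw [MonoidHom.mem_ker, Subgroup.mem_map_equiv, MulEquiv.symm_symm]
    show ψ.symm (QuotientGroup.mk' Z (j x)) = 1 ↔ _
    rw [MulEquiv.map_eq_one_iff]
    exact QuotientGroup.eq_one_iff (j x)
  have hcard : Nat.card τ.ker = 2 := by
    rw [hk, ← card_Z]
    exact (Nat.card_congr (Subgroup.equivMapOfInjective _ _ j.symm.injective).toEquiv).symm
  have hcen : τ.ker ≤ Subgroup.center (ULift.{u} Gam) := by
    intro x hx
    rw [hk, Subgroup.mem_map_equiv, MulEquiv.symm_symm] at hx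
    exact Subgroup.mem_center_iff.2 fun y => j.injective (by
      rw [map_mul, map_mul, Subgroup.mem_center_iff.1 (Z_le_center hx) (j y)])
  have hperf : commutator (ULift.{u} Gam) = ⊤ := by
    rw [commutator_def, ← Subgroup.map_top_of_surjective j.symm.toMonoidHom j.symm.surjective,
      ← Subgroup.map_commutator, ← commutator_def, perfect]
  obtain ⟨kA⟩ := equiv_of_card_two hcard
  refine DMult.hasSchurMultiplier_of_bound τ hs hcen hperf (fun E _ _ π hπ hπc hE => ?_) kA
  rw [hcard]
  exact card_ker_le hc π ⟨hπ, hπc, by rw [hE]; exact le_top⟩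

end CfsgLib.ChevMult.F4Two
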